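import Cfsg.Agent.Lib.SelfCentNine.Basic
import Cfsg.Agent.Lib.SelfCentThree.Chars

/-!
# A self-centralizing Sylow 3-subgroup of order 9: characters

* `six_support` : the two columns meet in six characters
* `exists_equations` : signed degrees `F`, `D₁`, `D₂`, `D₃` with the class equations
* `card_of_two_classes` : the order of the simple group is 360
-/

set_option autoImplicit false
set_option linter.unusedSectionVars false

open scoped ComplexConjugate

namespace Cfsg.Agent.SelfCentNine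

open Cfsg Subgroup

theorem six_support {ι : Type*} [Fintype ι] [DecidableEq ι] (a b : ι → ℤ) (i₀ : ι)
    (ha0 : a i₀ = 1) (hb0 : b i₀ = 1) (hmod : ∀ i, (3 : ℤ) ∣ a i - b i)
    (haa : ∑ i, a i ^ 2 = 9) (hbb : ∑ i, b i ^ 2 = 9) (hab : ∑ i, a i * b i = 0) :
    ∃ (P Q R₁ R₂ R₃ : ι) (s t c₁ c₂ c₃ : ℤ),
      [i₀, P, Q, R₁, R₂, R₃].Nodup ∧ (s = 1 ∨ s = -1) ∧ (t = 1 ∨ t = -1) ∧
      (c₁ = 1 ∨ c₁ = -1) ∧ (c₂ = 1 ∨ c₂ = -1) ∧ (c₃ = 1 ∨ c₃ = -1) ∧
      a P = s ∧ b P = -2 * s ∧ a Q = -2 * t ∧ b Q = t ∧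
      a R₁ = c₁ ∧ b R₁ = c₁ ∧ a R₂ = c₂ ∧ b R₂ = c₂ ∧ a R₃ = c₃ ∧ b R₃ = c₃ ∧
      ∀ i, i ∉ [i₀, P, Q, R₁, R₂, R₃] → a i = 0 ∧ b i = 0 := by
  classical
  have hbound : ∀ (c : ι → ℤ), c i₀ = 1 → ∑ i, c i ^ 2 = 9 → ∀ i, i ≠ i₀ → -2 ≤ c i ∧ c i ≤ 2 := by
    intro c hc0 hc i hi
    have h := Finset.sum_le_sum_of_subset_of_nonneg (f := fun i => c i ^ 2)
      (Finset.subset_univ ({i₀, i} : Finset ι)) (fun _ _ _ => sq_nonneg _)
    rw [Finset.sum_pair hi.symm, hc, hc0] at h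
    constructor <;> nlinarith
  have hcases : ∀ i, a i = b i ∨ (a i = 1 ∧ b i = -2) ∨ (a i = -1 ∧ b i = 2) ∨
      (a i = 2 ∧ b i = -1) ∨ (a i = -2 ∧ b i = 1) := fun i => by
    by_cases hi : i = i₀
    · exact Or.inl (by rw [hi, ha0, hb0])
    have h1 := hbound a ha0 haa i hi
    have h2 := hbound b hb0 hbb i hi
    obtain ⟨k, hk⟩ := hmod i
    omega
  set T := Finset.univ.filter fun i => a i ≠ b i with hT
  have hTcard : T.card = 2 := by
    have h : ∑ i, (a i - b i) ^ 2 = 18 := by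
      rw [Finset.sum_congr rfl fun i _ => show (a i - b i) ^ 2 = a i ^ 2 - 2 * (a i * b i) + b i ^ 2 by ring,
        Finset.sum_add_distrib, Finset.sum_sub_distrib, ← Finset.mul_sum, haa, hbb, hab]
      norm_num
    have h' : ∑ i, (a i - b i) ^ 2 = 9 * (T.card : ℤ) := by
      rw [hT, ← Finset.sum_boole, Finset.mul_sum]
      refine Finset.sum_congr rfl fun i _ => ?_
      rcases hcases i with e | ⟨e, e'⟩ | ⟨e, e'⟩ | ⟨e, e'⟩ | ⟨e, e'⟩ <;> simp [e] <;> simp [e']
    omega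
  obtain ⟨U, V, hUV, hTe⟩ := Finset.card_eq_two.mp hTcard
  have hU : a U ≠ b U := by
    have : U ∈ T := hTe ▸ Finset.mem_insert_self U {V}
    simpa [hT] using this
  have hV : a V ≠ b V := by
    have : V ∈ T := hTe ▸ Finset.mem_insert_of_mem (Finset.mem_singleton_self V)
    simpa [hT] using this
  have hout : ∀ i, i ≠ U → i ≠ V → a i = b i := fun i h1 h2 => by
    by_contra hne
    have : i ∈ T := by simp [hT, hne]
    rw [hTe] at this
    simp [h1, h2] at this
  have hdiff : (a U ^ 2 - b U ^ 2) + (a V ^ 2 - b V ^ 2) = 0 := by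
    have h : ∑ i, (a i ^ 2 - b i ^ 2) = 0 := by rw [Finset.sum_sub_distrib, haa, hbb]; norm_num
    rw [← Finset.sum_subset (Finset.subset_univ ({U, V} : Finset ι)) (fun i _ hi => by
      simp only [Finset.mem_insert, Finset.mem_singleton, not_or] at hi
      rw [hout i hi.1 hi.2, sub_self]), Finset.sum_pair hUV] at h
    exact h
  obtain ⟨P, Q, s, t, hs, ht, hPQ, hPa, hPb, hQa, hQb, houtPQ⟩ : ∃ (P Q : ι) (s t : ℤ),
      (s = 1 ∨ s = -1) ∧ (t = 1 ∨ t = -1) ∧ P ≠ Q ∧ a P = s ∧ b P = -2 * s ∧ a Q = -2 * t ∧ b Q = t ∧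
      ∀ i, i ≠ P → i ≠ Q → a i = b i := by
    have hu := (hcases U).resolve_left hU
    have hv := (hcases V).resolve_left hV
    rcases hu with ⟨e, e'⟩ | ⟨e, e'⟩ | ⟨e, e'⟩ | ⟨e, e'⟩ <;>
      rcases hv with ⟨f, f'⟩ | ⟨f, f'⟩ | ⟨f, f'⟩ | ⟨f, f'⟩ <;> rw [e, e', f, f'] at hdiff <;>
      first
      | omega
      | exact ⟨U, V, a U, b V, by omega, by omega, hUV, rfl, by omega, by omega, rfl, hout⟩
      | exact ⟨V, U, a V, b U, by omega, by omega, hUV.symm, rfl, by omega, by omega, rfl,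
          fun i h1 h2 => hout i h2 h1⟩
  have hP0 : P ≠ i₀ := fun e => by rw [e] at hPa hPb; rw [ha0] at hPa; rw [hb0, ← hPa] at hPb; omega
  have hQ0 : Q ≠ i₀ := fun e => by rw [e] at hQa hQb; rw [hb0] at hQb; rw [ha0, ← hQb] at hQa; omega
  set R := Finset.univ.filter fun i => (i ≠ i₀ ∧ i ≠ P ∧ i ≠ Q) ∧ a i ≠ 0 with hR
  have hrest : ∑ i ∈ ({i₀, P, Q} : Finset ι)ᶜ, a i ^ 2 = 3 := by
    have h := Finset.sum_add_sum_compl ({i₀, P, Q} : Finset ι) (fun i => a i ^ 2)
    rw [haa, Finset.sum_insert (by simp [hP0.symm, hQ0.symm]), Finset.sum_pair hPQ, ha0, hPa, hQa] at h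
    rcases hs with e | e <;> rcases ht with e' | e' <;> rw [e, e'] at h <;> omega
  have hone : ∀ i, i ≠ i₀ → i ≠ P → i ≠ Q → a i = 0 ∨ a i = 1 ∨ a i = -1 := fun i h0 h1 h2 => by
    have hle : a i ^ 2 ≤ 3 := hrest ▸ Finset.single_le_sum (f := fun i => a i ^ 2)
      (fun _ _ => sq_nonneg _) (by simp [h0, h1, h2])
    have h3 : -1 ≤ a i ∧ a i ≤ 1 := by constructor <;> nlinarith
    omega
  have hRcard : R.card = 3 := by
    have h : ∑ i ∈ ({i₀, P, Q} : Finset ι)ᶜ, a i ^ 2 = (R.card : ℤ) := by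
      rw [hR, ← Finset.sum_boole, ← Finset.sum_subset (Finset.subset_univ (({i₀, P, Q} : Finset ι)ᶜ))
        (fun i _ hi => by
          rw [if_neg]
          rintro ⟨⟨h0, h1, h2⟩, -⟩
          exact hi (by simp [h0, h1, h2]))]
      refine Finset.sum_congr rfl fun i hi => ?_
      simp only [Finset.mem_compl, Finset.mem_insert, Finset.mem_singleton, not_or] at hi
      rcases hone i hi.1 hi.2.1 hi.2.2 with e | e | e <;> simp [e, hi]
    omega
  obtain ⟨R₁, R₂, R₃, h12, h13, h23, hRe⟩ := Finset.card_eq_three.mp hRcard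
  have hmemR : ∀ i ∈ R, (i ≠ i₀ ∧ i ≠ P ∧ i ≠ Q) ∧ (a i = 1 ∨ a i = -1) ∧ b i = a i := fun i hi => by
    simp only [hR, Finset.mem_filter, Finset.mem_univ, true_and] at hi
    exact ⟨hi.1, (hone i hi.1.1 hi.1.2.1 hi.1.2.2).resolve_left hi.2, (houtPQ i hi.1.2.1 hi.1.2.2).symm⟩
  obtain ⟨⟨n1, n1', n1''⟩, c1, e1⟩ := hmemR R₁ (by simp [hRe])
  obtain ⟨⟨n2, n2', n2''⟩, c2, e2⟩ := hmemR R₂ (by simp [hRe])
  obtain ⟨⟨n3, n3', n3''⟩, c3, e3⟩ := hmemR R₃ (by simp [hRe])
  refine ⟨P, Q, R₁, R₂, R₃, s, t, a R₁, a R₂, a R₃, ?_, hs, ht, c1, c2, c3, hPa, hPb, hQa, hQb,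
    rfl, e1, rfl, e2, rfl, e3, fun i hi => ?_⟩
  · simp [hP0.symm, hQ0.symm, n1.symm, n2.symm, n3.symm, hPQ, n1'.symm, n2'.symm, n3'.symm, n1''.symm,
      n2''.symm, n3''.symm, h12, h13, h23]
  · simp only [List.mem_cons, List.not_mem_nil, or_false, not_or] at hi
    have ha : a i = 0 := by
      by_contra hne
      have : i ∈ R := by simp [hR, hi, hne]
      rw [hRe] at this
      simp [hi] at this
    exact ⟨ha, by rw [← houtPQ i hi.2.1 hi.2.2.1, ha]⟩

theorem eq_nine_count (c : ZMod 3 × ZMod 3) : c ≠ 0 → c ∉ ({(1, 0), (2, 0), (0, 1), (0, 2)} : Finset _) →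
    (({(1, 0), (2, 0), (0, 1), (0, 2)} : Finset (ZMod 3 × ZMod 3)).filter fun p =>
      c - p ∈ ({(1, 0), (2, 0), (0, 1), (0, 2)} : Finset (ZMod 3 × ZMod 3))).card = 2 := by
  revert c; decide

theorem four_finite (F a b c : ℤ) : F ∈ [4, 13, -5, -14] → a ∈ [10, 19, 28, -8, -17, -26] →
    b ∈ [10, 19, 28, -8, -17, -26] → c ∈ [10, 19, 28, -8, -17, -26] → a + b + c = F - 1 →
    F * a * b * c + 2 * (a * b * c) + F * (b * c + a * c + a * b) ≠ 0 →
    162 * (F * a * b * c) % (F * a * b * c + 2 * (a * b * c) + F * (b * c + a * c + a * b)) = 0 →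
    1 + 2 * F ^ 2 + (a ^ 2 + b ^ 2 + c ^ 2) ≤
      162 * (F * a * b * c) / (F * a * b * c + 2 * (a * b * c) + F * (b * c + a * c + a * b)) →
    162 * (F * a * b * c) / (F * a * b * c + 2 * (a * b * c) + F * (b * c + a * c + a * b)) = 360 := by
  have h : ∀ F ∈ ([4, 13, -5, -14] : List ℤ), ∀ a ∈ ([10, 19, 28, -8, -17, -26] : List ℤ),
      ∀ b ∈ ([10, 19, 28, -8, -17, -26] : List ℤ), ∀ c ∈ ([10, 19, 28, -8, -17, -26] : List ℤ),
      a + b + c = F - 1 →
      F * a * b * c + 2 * (a * b * c) + F * (b * c + a * c + a * b) ≠ 0 →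
      162 * (F * a * b * c) % (F * a * b * c + 2 * (a * b * c) + F * (b * c + a * c + a * b)) = 0 →
      1 + 2 * F ^ 2 + (a ^ 2 + b ^ 2 + c ^ 2) ≤
        162 * (F * a * b * c) / (F * a * b * c + 2 * (a * b * c) + F * (b * c + a * c + a * b)) →
      162 * (F * a * b * c) / (F * a * b * c + 2 * (a * b * c) + F * (b * c + a * c + a * b)) = 360 := by
    decide +kernel
  exact fun h1 h2 h3 h4 => h F h1 a h2 b h3 c h4

theorem arith_four {g : ℕ} {F a b c : ℤ} (hF : F % 9 = 4) (ha : a % 9 = 1) (hb : b % 9 = 1)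
    (hc : c % 9 = 1) (ha1 : a ≠ 1) (hb1 : b ≠ 1) (hc1 : c ≠ 1) (hsum : 1 - F + (a + b + c) = 0)
    (hsq : 1 + 2 * F ^ 2 + (a ^ 2 + b ^ 2 + c ^ 2) ≤ (g : ℤ))
    (heq : (162 : ℚ) / g = 1 + 2 / (F : ℚ) + (1 / (a : ℚ) + 1 / b + 1 / c)) : g = 360 := by
  have hinvD : ∀ d : ℤ, d % 9 = 1 → d ≠ 1 → (d : ℚ) ≠ 0 ∧ -(1 / 8 : ℚ) ≤ 1 / (d : ℚ) := fun d hd hd1 => by
    have h0 : (d : ℚ) ≠ 0 := by exact_mod_cast (show d ≠ 0 by omega)
    refine ⟨h0, ?_⟩
    rcases lt_or_gt_of_ne (show d ≠ 0 by omega) with h | h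
    · have h8 : (d : ℚ) ≤ -8 := by exact_mod_cast (show d ≤ -8 by omega)
      rw [le_div_iff_of_neg (by linarith)]; linarith
    · have : (0 : ℚ) < d := by exact_mod_cast h
      linarith [div_pos one_pos this]
  have hinvF : (F : ℚ) ≠ 0 ∧ -(2 / 5 : ℚ) ≤ 2 / (F : ℚ) := by
    have h0 : (F : ℚ) ≠ 0 := by exact_mod_cast (show F ≠ 0 by omega)
    refine ⟨h0, ?_⟩
    rcases lt_or_gt_of_ne (show F ≠ 0 by omega) with h | h
    · have h8 : (F : ℚ) ≤ -5 := by exact_mod_cast (show F ≤ -5 by omega)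
      rw [le_div_iff_of_neg (by linarith)]; linarith
    · have : (0 : ℚ) < F := by exact_mod_cast h
      linarith [div_pos two_pos this]
  obtain ⟨ha0, hai⟩ := hinvD a ha ha1
  obtain ⟨hb0, hbi⟩ := hinvD b hb hb1
  obtain ⟨hc0, hci⟩ := hinvD c hc hc1
  obtain ⟨hF0, hFi⟩ := hinvF
  have hT : (9 / 40 : ℚ) ≤ 162 / g := by rw [heq]; linarith
  have hg0 : (0 : ℚ) < g := by
    rcases Nat.eq_zero_or_pos g with rfl | h
    · norm_num at hT
    · exact_mod_cast h
  have hg : (g : ℤ) ≤ 720 := by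
    have : (g : ℚ) ≤ 720 := by rw [div_le_div_iff₀ (by norm_num) hg0] at hT; linarith
    exact_mod_cast this
  have hFl : F ∈ ([4, 13, -5, -14] : List ℤ) := by
    have h1 : -19 < F ∧ F < 19 := by constructor <;> nlinarith [sq_nonneg a, sq_nonneg b, sq_nonneg c]
    simp only [List.mem_cons, List.not_mem_nil, or_false]
    omega
  have hDl : ∀ d : ℤ, d % 9 = 1 → d ≠ 1 → d ^ 2 ≤ 719 → d ∈ ([10, 19, 28, -8, -17, -26] : List ℤ) :=
    fun d hd hd1 hd2 => by
    have h1 : -27 < d ∧ d < 27 := by constructor <;> nlinarith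
    simp only [List.mem_cons, List.not_mem_nil, or_false]
    omega
  set P := F * a * b * c with hP
  set T := F * a * b * c + 2 * (a * b * c) + F * (b * c + a * c + a * b) with hTdef
  have hmul : (g : ℤ) * T = 162 * P := by
    have h : ((g : ℚ)) * (T : ℚ) = 162 * (P : ℚ) := by
      rw [hTdef, hP]
      push_cast
      field_simp at heq ⊢
      linear_combination -heq
    exact_mod_cast h
  have hP0 : P ≠ 0 := by
    have : (F : ℤ) ≠ 0 ∧ a ≠ 0 ∧ b ≠ 0 ∧ c ≠ 0 := ⟨by omega, by omega, by omega, by omega⟩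
    simp [hP, this]
  have hT0 : T ≠ 0 := fun e => by
    rw [e, mul_zero] at hmul
    exact hP0 (by omega)
  have hdiv : 162 * P / T = (g : ℤ) := by rw [← hmul, Int.mul_ediv_cancel _ hT0]
  have hmod : 162 * P % T = 0 := by rw [← hmul, Int.mul_emod_left]
  have := four_finite F a b c hFl (hDl a ha ha1 (by nlinarith [sq_nonneg F, sq_nonneg b, sq_nonneg c]))
    (hDl b hb hb1 (by nlinarith [sq_nonneg F, sq_nonneg a, sq_nonneg c]))
    (hDl c hc hc1 (by nlinarith [sq_nonneg F, sq_nonneg a, sq_nonneg b])) (by omega) hT0 hmod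
    (hdiv.symm ▸ hsq)
  rw [hdiv] at this
  exact_mod_cast this

theorem arith_two {F a b c : ℤ} (hF : F % 3 = 1) (ha : a % 3 = 1) (hb : b % 3 = 1) (hc : c % 3 = 1)
    (hF2 : F ^ 2 ≠ 1 ∧ F ^ 2 ≠ 4) (ha2 : a ^ 2 ≠ 1 ∧ a ^ 2 ≠ 4) (hb2 : b ^ 2 ≠ 1 ∧ b ^ 2 ≠ 4)
    (hc2 : c ^ 2 ≠ 1 ∧ c ^ 2 ≠ 4) (hsum : 1 - F + (a + b + c) = 0)
    (heq : (0 : ℚ) = 1 + 2 / (F : ℚ) + (1 / (a : ℚ) + 1 / b + 1 / c)) : False := by
  have key : ∀ d : ℤ, d % 3 = 1 → d ^ 2 ≠ 1 ∧ d ^ 2 ≠ 4 →
      (-(1 / 5 : ℚ) ≤ 1 / (d : ℚ)) ∧ (d = -5 ∨ -(1 / 5 : ℚ) < 1 / (d : ℚ)) := fun d hd hd2 => by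
    have h1 : d ≠ 1 := fun e => hd2.1 (by rw [e]; norm_num)
    have h2 : d ≠ -2 := fun e => hd2.2 (by rw [e]; norm_num)
    rcases le_or_gt 4 d with h | h
    · have : (0 : ℚ) < d := by exact_mod_cast (show 0 < d by omega)
      have := div_pos one_pos this
      exact ⟨by linarith, Or.inr (by linarith)⟩
    · rcases eq_or_ne d (-5) with e | e
      · subst e; norm_num
      · have h8 : (d : ℚ) ≤ -8 := by exact_mod_cast (show d ≤ -8 by omega)
        refine ⟨?_, Or.inr ?_⟩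
        · rw [le_div_iff_of_neg (by linarith)]; linarith
        · rw [lt_div_iff_of_neg (by linarith)]; linarith
  obtain ⟨ha', ha''⟩ := key a ha ha2
  obtain ⟨hb', hb''⟩ := key b hb hb2
  obtain ⟨hc', hc''⟩ := key c hc hc2
  obtain ⟨hF', hF''⟩ := key F hF hF2
  rw [show (2 : ℚ) / F = 2 * (1 / F) by ring] at heq
  rcases hF'' with eF | eF
  · rcases ha'' with e1 | e1
    · rcases hb'' with e2 | e2
      · rcases hc'' with e3 | e3
        · omega
        · linarith
      · linarith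
    · linarith
  · linarith

variable {G : Type*} [Group G] [Finite G] {S : Subgroup G}

theorem exists_equations [IsSimpleGroup G] (hS : Nine S) (hreal : ∀ p : G, p ^ 3 = 1 → IsConj p p⁻¹)
    {x y : G} (hx : x ∈ S) (hx1 : x ≠ 1) (hy : y ∈ S) (hy1 : y ≠ 1) (hxy : ¬ IsConj x y) :
    ∃ F a b c : ℤ, F % 3 = 1 ∧ a % 3 = 1 ∧ b % 3 = 1 ∧ c % 3 = 1 ∧
      ((F ^ 2 ≠ 1 ∧ F ^ 2 ≠ 4) ∧ (a ^ 2 ≠ 1 ∧ a ^ 2 ≠ 4) ∧ (b ^ 2 ≠ 1 ∧ b ^ 2 ≠ 4) ∧
        (c ^ 2 ≠ 1 ∧ c ^ 2 ≠ 4)) ∧
      1 - F + (a + b + c) = 0 ∧ 1 + 2 * F ^ 2 + (a ^ 2 + b ^ 2 + c ^ 2) ≤ (Nat.card G : ℤ) ∧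
      ((81 * Nat.card {p : G × G // IsConj x p.1 ∧ IsConj x p.2 ∧ p.1 * p.2 = y} : ℕ) : ℚ) / Nat.card G =
        1 + 2 / (F : ℚ) + (1 / (a : ℚ) + 1 / b + 1 / c) ∧
      ((∀ u ∈ S, u ≠ 1 → IsConj x u ∨ IsConj y u) → (fiber S x).ncard = 4 → (fiber S y).ncard = 4 →
        F % 9 = 4 ∧ a % 9 = 1 ∧ b % 9 = 1 ∧ c % 9 = 1) := by
  classical
  have := Fintype.ofFinite G
  have := Fintype.ofFinite (IrrCharacter G)
  have := Fintype.ofFinite S
  have hcent : ∀ u ∈ S, u ≠ 1 → Nat.card (centralizer ({u} : Set G)) = 9 := fun u hu hu1 => by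
    rw [hS.cent u hu hu1, hS.card]
  have hna : ¬ IsMulCommutative G := fun hcm => hxy (by
    exfalso
    have hall : ∀ g : G, g ∈ S := fun g => hS.mem_of_commute hx hx1 (hcm.is_comm.comm g x)
    let : CommGroup G := { (inferInstance : Group G) with mul_comm := hcm.is_comm.comm }
    have hpr := (IsSimpleGroup.prime_card : (Nat.card G).Prime)
    rw [← Subgroup.card_top, ← (Subgroup.eq_top_iff' S).mpr hall, hS.card] at hpr
    norm_num at hpr)
  have hval : ∀ (φ : IrrCharacter G) (u : S), ∃ (v : ℤ) (n : ℕ), (φ : G → ℂ) u = v ∧ (φ : G → ℂ) 1 = n ∧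
      (3 : ℤ) ∣ (n : ℤ) - v := fun φ u => SelfCentThree.exists_int_of_cube
    (Char.IsIrrCharacter.isCharacter φ.2) (hS.cubed u u.2) (hreal u (hS.cubed u u.2))
  choose v deg' hv hdeg' hmod' using hval
  let deg : IrrCharacter G → ℕ := fun φ => deg' φ 1
  have hdeg : ∀ φ : IrrCharacter G, (φ : G → ℂ) 1 = deg φ := fun φ => hdeg' φ 1
  have hmod : ∀ φ u, (3 : ℤ) ∣ (deg φ : ℤ) - v φ u := fun φ u => by
    have h : (deg φ : ℂ) = deg' φ u := (hdeg φ).symm.trans (hdeg' φ u)
    rw [show deg φ = deg' φ u by exact_mod_cast h]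
    exact hmod' φ u
  let one : IrrCharacter G := ⟨1, Char.isIrrCharacter_one⟩
  have hv1 : ∀ u, v one u = 1 := fun u => by
    have h' : (1 : ℂ) = (v one u : ℂ) := hv one u
    exact_mod_cast h'.symm
  have hd1 : deg one = 1 := by
    have h' : (1 : ℂ) = (deg one : ℂ) := hdeg one
    exact_mod_cast h'.symm
  have hsum9 : ∀ φ : IrrCharacter G, (9 : ℤ) ∣ ∑ u : S, v φ u := fun φ => by
    obtain ⟨m, hm⟩ := Char.IsCharacter.classInner_nat
      (Char.IsCharacter.restrict (Char.IsIrrCharacter.isCharacter φ.2) S) (Char.isCharacter_one (G := S))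
    have h := Char.card_mul_classInner (fun u : S => (φ : G → ℂ) u) (1 : S → ℂ)
    rw [hm, hS.card] at h
    refine ⟨m, ?_⟩
    have : ((∑ u : S, v φ u : ℤ) : ℂ) = ((9 * (m : ℤ) : ℤ) : ℂ) := by
      push_cast at h ⊢
      rw [h]
      exact Finset.sum_congr rfl fun u _ => by rw [hv φ u]; simp
    exact_mod_cast this
  -- non-trivial characters have degree at least three
  have hdeg3 : ∀ φ : IrrCharacter G, φ ≠ one → 3 ≤ deg φ := by
    intro φ hφ
    have hpos : deg φ ≠ 0 := fun h => by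
      have := Char.IsIrrCharacter.apply_one_ne_zero φ.2
      rw [hdeg φ, h, Nat.cast_zero] at this
      exact this rfl
    have hne1 : deg φ ≠ 1 := by
      intro hd1'
      obtain ⟨l, hl⟩ := Char.exists_hom_of_degree_one (Char.IsIrrCharacter.isCharacter φ.2)
        (by rw [hdeg φ, hd1', Nat.cast_one])
      have hker : ∀ g h : G, (φ : G → ℂ) (g * h * g⁻¹ * h⁻¹) = 1 := fun g h => by
        rw [← hl, map_mul, map_mul, map_mul, mul_comm (l g) (l h), mul_assoc (l h) (l g), ← map_mul,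
          mul_inv_cancel, map_one, mul_one, ← map_mul, mul_inv_cancel, map_one]
      have hcomm : commutator G = ⊤ :=
        ((Subgroup.commutator_normal ⊤ ⊤).eq_bot_or_eq_top).resolve_left fun hbot =>
          hna ⟨⟨fun g h => commutatorElement_eq_one_iff_mul_comm.mp
            ((Subgroup.eq_bot_iff_forall _).mp hbot _
              (Subgroup.commutator_mem_commutator (mem_top g) (mem_top h)))⟩⟩
      refine hφ (Subtype.ext (funext fun g => ?_))
      show (φ : G → ℂ) g = 1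
      have hg : g ∈ commutator G := hcomm ▸ mem_top g
      rw [commutator_eq_closure] at hg
      rw [← hl]
      refine Subgroup.closure_induction (fun z hz => ?_) (map_one l) (fun z w _ _ hz hw => ?_)
        (fun z _ hz => ?_) hg
      · obtain ⟨p, q, rfl⟩ := hz
        rw [hl, commutatorElement_def]; exact hker p q
      · rw [map_mul, hz, hw, one_mul]
      · have : l z * l z⁻¹ = 1 := by rw [← map_mul, mul_inv_cancel, map_one]
        rwa [hz, one_mul] at this
    by_contra hlt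
    have h2 : deg φ = 2 := by omega
    have hfaith : ∀ u : S, (u : G) ≠ 1 → v φ u ≠ 2 := by
      intro u hu hv2
      obtain ⟨n, ρ, hirr, hρ⟩ := φ.2
      have hn : (Module.finrank ℂ (Fin n → ℂ) : ℂ) = 2 := by
        rw [← Representation.char_one ρ, hρ, hdeg φ, h2, Nat.cast_ofNat]
      have h1 := (Char.character_eq_finrank_iff ρ (u : G)).mp (by rw [hn, hρ, hv φ u, hv2]; norm_num)
      rcases (MonoidHom.normal_ker ρ).eq_bot_or_eq_top with hb | ht
      · have hm : (u : G) ∈ ρ.ker := by rw [MonoidHom.mem_ker, h1]; rfl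
        rw [hb, mem_bot] at hm
        exact hu hm
      · have hall : ∀ g : G, (φ : G → ℂ) g = 2 := fun g => by
          have hg : ρ g = 1 := by rw [← MonoidHom.mem_ker, ht]; trivial
          rw [← hρ, ← hn]
          simp [Representation.character, hg]
        have h := Char.classInner_irr_self φ.2
        have hsum := Char.card_mul_classInner (φ : G → ℂ) (φ : G → ℂ)
        rw [h, mul_one, Finset.sum_congr rfl fun g _ => by rw [hall g], Finset.sum_const,
          Finset.card_univ, nsmul_eq_mul, map_ofNat, ← Nat.card_eq_fintype_card] at hsum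
        have h0 : (Nat.card G : ℂ) ≠ 0 := Nat.cast_ne_zero.mpr Nat.card_pos.ne'
        have : (1 : ℂ) = 2 * 2 := mul_left_cancel₀ h0 (by rw [mul_one]; exact hsum)
        norm_num at this
    have hm1 : ∀ u : S, u ≠ 1 → v φ u = -1 := by
      intro u hu
      have hb := Char.IsCharacter.norm_le (Char.IsIrrCharacter.isCharacter φ.2) (u : G)
      rw [hv φ u, hdeg φ, h2] at hb
      have hb' : |v φ u| ≤ 2 := by
        have : |((v φ u : ℤ) : ℝ)| ≤ 2 := by simpa [Complex.norm_intCast] using hb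
        exact_mod_cast this
      have h3 := hmod φ u
      have hne := hfaith u (fun e => hu (Subtype.ext e))
      rw [h2] at h3
      rw [abs_le] at hb'
      omega
    have hone' : v φ 1 = 2 := by
      have h := hv φ 1
      rw [OneMemClass.coe_one, hdeg φ, h2] at h
      exact_mod_cast h.symm
    have h := hsum9 φ
    rw [← Finset.sum_erase_add _ _ (Finset.mem_univ (1 : S)), hone',
      Finset.sum_congr rfl (fun u hu => hm1 u (Finset.ne_of_mem_erase hu)), Finset.sum_const,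
      Finset.card_erase_of_mem (Finset.mem_univ _), Finset.card_univ, ← Nat.card_eq_fintype_card,
      hS.card] at h
    norm_num at h
  let X : S := ⟨x, hx⟩
  let Y : S := ⟨y, hy⟩
  have horth : ∀ (g : G) (u : S), ∑ φ : IrrCharacter G, (φ : G → ℂ) g * (v φ u : ℂ) =
      if IsConj g (u : G) then (Nat.card (centralizer ({g} : Set G)) : ℂ) else 0 := fun g u => by
    rw [← Char.column_orth g (u : G)]
    exact Finset.sum_congr rfl fun φ _ => by rw [hv φ u, map_intCast]
  have hxx : ∀ u : S, (u : G) ≠ 1 → ∑ φ, v φ u ^ 2 = 9 := fun u hu => by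
    have h := horth u u
    rw [if_pos (IsConj.refl _), hcent u u.2 hu] at h
    have h' : ((∑ φ, v φ u ^ 2 : ℤ) : ℂ) = ((9 : ℤ) : ℂ) := by
      push_cast
      rw [show (9 : ℂ) = ((9 : ℕ) : ℂ) by norm_num, ← h]
      exact Finset.sum_congr rfl fun φ _ => by rw [hv φ u, pow_two]
    exact_mod_cast h'
  have hxy0 : ∑ φ, v φ X * v φ Y = 0 := by
    have h := horth x Y
    rw [if_neg hxy] at h
    have h' : ((∑ φ, v φ X * v φ Y : ℤ) : ℂ) = ((0 : ℤ) : ℂ) := by
      push_cast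
      rw [← h]
      exact Finset.sum_congr rfl fun φ _ => by rw [← hv φ X]
    exact_mod_cast h'
  obtain ⟨P, Q, R₁, R₂, R₃, s, t, c₁, c₂, c₃, hnd, hs, ht, hc₁, hc₂, hc₃, hPx, hPy, hQx, hQy,
    h1x, h1y, h2x, h2y, h3x, h3y, hzero⟩ :=
    six_support (fun φ => v φ X) (fun φ => v φ Y) one (hv1 X) (hv1 Y)
      (fun φ => by
        have h1 := hmod φ X
        have h2 := hmod φ Y
        show (3 : ℤ) ∣ v φ X - v φ Y
        omega) (hxx X hx1) (hxx Y hy1) hxy0
  have hsix : ∀ {M : Type} [AddCommMonoid M] (f : IrrCharacter G → M),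
      (∀ φ, v φ X = 0 ∧ v φ Y = 0 → f φ = 0) →
      ∑ φ, f φ = f one + f P + f Q + f R₁ + f R₂ + f R₃ := by
    intro M _ f hf
    rw [← Finset.sum_subset (Finset.subset_univ [one, P, Q, R₁, R₂, R₃].toFinset)
      (fun φ _ hφ => hf φ (hzero φ (by simpa using hφ))), List.sum_toFinset _ hnd]
    simp [add_assoc]
  have hnot1 : ∀ u : S, (u : G) ≠ 1 → ¬ IsConj (1 : G) (u : G) := fun u hu h => hu (isConj_one_right.mp h)
  have horth1 : ∀ u : S, (u : G) ≠ 1 → (u = X ∨ u = Y) →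
      1 + (deg P : ℤ) * v P u + deg Q * v Q u + deg R₁ * v R₁ u + deg R₂ * v R₂ u + deg R₃ * v R₃ u = 0 := by
    intro u hu hXY
    have h := horth 1 u
    rw [if_neg (hnot1 u hu), hsix _ (fun φ hφ => by
      have : v φ u = 0 := by rcases hXY with e | e <;> rw [e]; exacts [hφ.1, hφ.2]
      rw [this]; simp)] at h
    simp only [hdeg, hv1, hd1, Nat.cast_one, Int.cast_one, mul_one] at h
    exact_mod_cast h
  have eX := horth1 X hx1 (Or.inl rfl)
  have eY := horth1 Y hy1 (Or.inr rfl)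
  rw [show v P X = s from hPx, show v Q X = -2 * t from hQx, show v R₁ X = c₁ from h1x,
    show v R₂ X = c₂ from h2x, show v R₃ X = c₃ from h3x] at eX
  rw [show v P Y = -2 * s from hPy, show v Q Y = t from hQy, show v R₁ Y = c₁ from h1y,
    show v R₂ Y = c₂ from h2y, show v R₃ Y = c₃ from h3y] at eY
  have hFF : t * (deg Q : ℤ) = s * (deg P : ℤ) := by linarith only [eX, eY]
  have hnd' := hnd
  simp only [List.nodup_cons, List.mem_cons, List.not_mem_nil, or_false, not_or] at hnd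
  obtain ⟨⟨hP1, hQ1, hR1, hR2, hR3⟩, -⟩ := hnd
  have hge : ∀ (φ : IrrCharacter G), one ≠ φ → ∀ ε : ℤ, ε = 1 ∨ ε = -1 →
      (ε * (deg φ : ℤ)) ^ 2 ≠ 1 ∧ (ε * (deg φ : ℤ)) ^ 2 ≠ 4 := fun φ hφ ε hε => by
    have h3 : (3 : ℤ) ≤ deg φ := by exact_mod_cast hdeg3 φ hφ.symm
    rcases hε with e | e <;> rw [e] <;> constructor <;> nlinarith
  have hsigned : ∀ (φ : IrrCharacter G) (u : S) (ε : ℤ), (ε = 1 ∨ ε = -1) → v φ u = ε →
      (ε * (deg φ : ℤ)) % 3 = 1 := fun φ u ε hε he => by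
    have h := hmod φ u
    rw [he] at h
    rcases hε with e | e <;> subst e <;> omega
  refine ⟨s * deg P, c₁ * deg R₁, c₂ * deg R₂, c₃ * deg R₃, hsigned P X s hs hPx,
    hsigned R₁ X c₁ hc₁ h1x, hsigned R₂ X c₂ hc₂ h2x, hsigned R₃ X c₃ hc₃ h3x,
    ⟨hge P hP1 s hs, hge R₁ hR1 c₁ hc₁, hge R₂ hR2 c₂ hc₂, hge R₃ hR3 c₃ hc₃⟩,
    by linarith only [eX, hFF], ?_, ?_, ?_⟩
  · -- the sum of the squares of the degrees
    have h := Char.column_orth (1 : G) 1
    rw [if_pos (IsConj.refl _)] at h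
    have htot : ∑ φ, (deg φ : ℤ) ^ 2 = Nat.card G := by
      have : ((∑ φ, (deg φ : ℤ) ^ 2 : ℤ) : ℂ) = ((Nat.card G : ℤ) : ℂ) := by
        push_cast
        rw [show (Nat.card G : ℂ) = Nat.card (centralizer ({(1 : G)} : Set G)) by
          rw [Subgroup.centralizer_eq_top_iff_subset.mpr (by simp), Subgroup.card_top], ← h]
        exact Finset.sum_congr rfl fun φ _ => by rw [hdeg φ, map_natCast, pow_two]
      exact_mod_cast this
    have hle := Finset.sum_le_sum_of_subset_of_nonneg (f := fun φ => (deg φ : ℤ) ^ 2)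
      (Finset.subset_univ [one, P, Q, R₁, R₂, R₃].toFinset) (fun _ _ _ => sq_nonneg _)
    rw [htot, List.sum_toFinset _ hnd'] at hle
    simp only [List.map_cons, List.map_nil, List.sum_cons, List.sum_nil, hd1] at hle
    have hQs : (deg Q : ℤ) ^ 2 = (deg P : ℤ) ^ 2 := by
      have := congrArg (fun z : ℤ => z ^ 2) hFF
      rcases hs with e | e <;> rcases ht with e' | e' <;> rw [e, e'] at this <;>
        simpa [mul_pow] using this
    have hsq : ∀ ε z : ℤ, (ε = 1 ∨ ε = -1) → (ε * z) ^ 2 = z ^ 2 := fun ε z hε => by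
      rcases hε with e | e <;> rw [e] <;> ring
    rw [hsq s _ hs, hsq c₁ _ hc₁, hsq c₂ _ hc₂, hsq c₃ _ hc₃]
    push_cast at hle
    linarith
  · -- the class equation
    have hcl : (Nat.card {g : G // IsConj x g} : ℂ) = (Nat.card G : ℂ) / 9 := by
      rw [eq_div_iff (by norm_num), ← SelfCentThree.card_isConj_mul x, hcent x hx hx1]
      push_cast; ring
    have h := Char.class_mult_formula x x y
    rw [hsix _ (fun φ hφ => by
        rw [show (φ : G → ℂ) x = (v φ X : ℂ) from hv φ X, hφ.1]; simp), hcl] at h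
    simp only [show ∀ φ : IrrCharacter G, (φ : G → ℂ) x = (v φ X : ℂ) from fun φ => hv φ X,
      show ∀ φ : IrrCharacter G, (φ : G → ℂ) y = (v φ Y : ℂ) from fun φ => hv φ Y, hdeg, hd1, hv1,
      show v P X = s from hPx, show v Q X = -2 * t from hQx, show v R₁ X = c₁ from h1x,
      show v R₂ X = c₂ from h2x, show v R₃ X = c₃ from h3x, show v P Y = -2 * s from hPy,
      show v Q Y = t from hQy, show v R₁ Y = c₁ from h1y, show v R₂ Y = c₂ from h2y,
      show v R₃ Y = c₃ from h3y, map_intCast] at h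
    have hG0 : (Nat.card G : ℂ) ≠ 0 := Nat.cast_ne_zero.mpr Nat.card_pos.ne'
    have hunit : ∀ ε : ℤ, (ε = 1 ∨ ε = -1) → ∀ z : ℂ,
        (ε : ℂ) * ε * ε / z = 1 / ((ε : ℂ) * z) := fun ε hε z => by
      rcases hε with e | e <;> rw [e] <;> push_cast <;> field_simp
    have hQd : (t : ℂ) * (deg Q : ℂ) = (s : ℂ) * (deg P : ℂ) := by exact_mod_cast hFF
    have hsum : ((Nat.card {p : G × G // IsConj x p.1 ∧ IsConj x p.2 ∧ p.1 * p.2 = y} : ℂ) * 81 /
        (Nat.card G : ℂ)) = 1 + 2 / ((s : ℂ) * deg P) +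
          (1 / ((c₁ : ℂ) * deg R₁) + 1 / ((c₂ : ℂ) * deg R₂) + 1 / ((c₃ : ℂ) * deg R₃)) := by
      rw [h]
      push_cast
      have eP : (s : ℂ) * s * (-2 * s) / deg P = -2 * (1 / ((s : ℂ) * deg P)) := by
        rw [← hunit s hs]; ring
      have eQ : (-2 * (t : ℂ)) * (-2 * t) * t / deg Q = 4 * (1 / ((s : ℂ) * deg P)) := by
        rw [← hQd, ← hunit t ht]; ring
      rw [eP, eQ, hunit c₁ hc₁, hunit c₂ hc₂, hunit c₃ hc₃]
      field_simp
      ring
    generalize Nat.card {p : G × G // IsConj x p.1 ∧ IsConj x p.2 ∧ p.1 * p.2 = y} = m at hsum ⊢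
    apply (algebraMap ℚ ℂ).injective
    simp only [map_div₀, map_add, map_one, map_natCast, map_intCast, map_ofNat]
    push_cast
    rw [← hsum]
    ring
  · -- congruences modulo nine
    intro hcov hfx hfy
    have hXY : ∀ (φ : IrrCharacter G) (u : S), u ≠ 1 → v φ u = v φ X ∨ v φ u = v φ Y := fun φ u hu => by
      have hconst : ∀ w : S, IsConj (w : G) (u : G) → v φ u = v φ w := fun w hw => by
        obtain ⟨g, hg⟩ := isConj_iff.mp hw
        have h := hv φ u
        rw [← hg, Char.IsCharacter.isClassFunction (Char.IsIrrCharacter.isCharacter φ.2) _ g, hv φ w] at h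
        exact_mod_cast h.symm
      rcases hcov u u.2 (fun e => hu (Subtype.ext e)) with h | h
      · exact Or.inl (hconst X h)
      · exact Or.inr (hconst Y h)
    have hcount : ∀ w : G, (Finset.univ.filter fun u : S => IsConj w (u : G)).card = (fiber S w).ncard :=
      fun w => by
      rw [← Nat.card_coe_set_eq, ← Fintype.card_subtype, ← Nat.card_eq_fintype_card]
      exact Nat.card_congr
        { toFun := fun u => ⟨(u.1 : G), u.1.2, u.2⟩
          invFun := fun u => ⟨⟨u.1, u.2.1⟩, u.2.2⟩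
          left_inv := fun u => rfl
          right_inv := fun u => rfl }
    have htotal : ∀ φ : IrrCharacter G, ∑ u : S, v φ u = deg φ + 4 * v φ X + 4 * v φ Y := fun φ => by
      have h1v : v φ 1 = deg φ := by
        have h := hv φ 1
        rw [OneMemClass.coe_one, hdeg φ] at h
        exact_mod_cast h.symm
      have hpt : ∀ u : S, v φ u = (if u = 1 then (deg φ : ℤ) else 0) +
          ((if IsConj x (u : G) then v φ X else 0) + (if IsConj y (u : G) then v φ Y else 0)) := fun u => by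
        by_cases hu : u = 1
        · subst hu
          rw [if_pos rfl, if_neg, if_neg, h1v, add_zero, add_zero]
          · exact fun h => hy1 (isConj_one_left.mp h)
          · exact fun h => hx1 (isConj_one_left.mp h)
        · rw [if_neg hu, zero_add]
          have hconst : ∀ w : S, IsConj (w : G) (u : G) → v φ u = v φ w := fun w hw => by
            obtain ⟨g, hg⟩ := isConj_iff.mp hw
            have h := hv φ u
            rw [← hg, Char.IsCharacter.isClassFunction (Char.IsIrrCharacter.isCharacter φ.2) _ g,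
              hv φ w] at h
            exact_mod_cast h.symm
          rcases hcov u u.2 (fun e => hu (Subtype.ext e)) with h | h
          · rw [if_pos h, if_neg (fun h' => hxy (h.trans h'.symm)), add_zero]; exact hconst X h
          · rw [if_pos h, if_neg (fun h' => hxy (h'.trans h.symm)), zero_add]; exact hconst Y h
      rw [Finset.sum_congr rfl fun u _ => hpt u, Finset.sum_add_distrib, Finset.sum_add_distrib,
        Finset.sum_ite_eq' Finset.univ (1 : S), if_pos (Finset.mem_univ _),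
        ← Finset.sum_filter, ← Finset.sum_filter, Finset.sum_const, Finset.sum_const, hcount, hcount,
        hfx, hfy]
      simp only [nsmul_eq_mul]
      push_cast; ring
    have k : ∀ φ : IrrCharacter G, (9 : ℤ) ∣ (deg φ : ℤ) + 4 * v φ X + 4 * v φ Y := fun φ =>
      htotal φ ▸ hsum9 φ
    have kP := k P; have k1 := k R₁; have k2 := k R₂; have k3 := k R₃
    rw [show v P X = s from hPx, show v P Y = -2 * s from hPy] at kP
    rw [show v R₁ X = c₁ from h1x, show v R₁ Y = c₁ from h1y] at k1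
    rw [show v R₂ X = c₂ from h2x, show v R₂ Y = c₂ from h2y] at k2
    rw [show v R₃ X = c₃ from h3x, show v R₃ Y = c₃ from h3y] at k3
    refine ⟨?_, ?_, ?_, ?_⟩
    · rcases hs with e | e <;> rw [e] at kP ⊢ <;> omega
    · rcases hc₁ with e | e <;> rw [e] at k1 ⊢ <;> omega
    · rcases hc₂ with e | e <;> rw [e] at k2 ⊢ <;> omega
    · rcases hc₃ with e | e <;> rw [e] at k3 ⊢ <;> omega

/-- With two classes of elements of order 3 the order is 360. -/
theorem card_of_two_classes [IsSimpleGroup G] (hS : Nine S) (hreal : ∀ p : G, p ^ 3 = 1 → IsConj p p⁻¹)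
    {x y : G} (hx : x ∈ S) (hx1 : x ≠ 1) (hy : y ∈ S) (hy1 : y ≠ 1) (hxy : ¬ IsConj x y)
    (htwo : ∀ u ∈ S, u ≠ 1 → 2 ≤ (fiber S u).ncard) : Nat.card G = 360 := by
  classical
  obtain ⟨F, a, b, c, hF, ha, hb, hc, ⟨hF2, ha2, hb2, hc2⟩, hsum, hsq, heq, h9⟩ :=
    exists_equations hS hreal hx hx1 hy hy1 hxy
  -- the pairs lie in `S`
  have hinS : ∀ p q : G, IsConj x p → IsConj x q → p * q = y → p ∈ fiber S x ∧ q ∈ fiber S x := by
    intro p q hp hq hpq
    have hcub : ∀ w, IsConj x w → w ^ 3 = 1 := fun w hw => by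
      obtain ⟨g, rfl⟩ := isConj_iff.mp hw
      rw [conj_pow, hS.cubed x hx]; group
    have hne : ∀ w, IsConj x w → w ≠ 1 := fun w hw e => hx1 (isConj_one_left.mp (e ▸ hw))
    by_cases hc : Commute p q
    · have hpy : Commute p y := hpq ▸ (Commute.refl p).mul_right hc
      have hpS := hS.mem_of_commute hy hy1 hpy
      refine ⟨⟨hpS, hp⟩, ⟨?_, hq⟩⟩
      rw [show q = p⁻¹ * y by rw [← hpq]; group]
      exact S.mul_mem (S.inv_mem hpS) hy
    · exfalso
      obtain ⟨-, h2⟩ := hS.triangle (hcub p hp) (hne p hp) (hcub q hq) (hpq ▸ hS.cubed y hy) hc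
      have hpp : p * p = p⁻¹ := (inv_eq_of_mul_eq_one_right (by rw [← mul_assoc, ← pow_three', hcub p hp])).symm
      exact hxy ((hp.trans (hreal p (hcub p hp))).trans (hpq ▸ hpp ▸ h2))
  have hfibcard : ∀ u ∈ S, u ≠ 1 → (fiber S u).ncard = (fiber S x).ncard := fun u hu hu1 => by
    rw [hS.card_fiber hu hu1, hS.card_fiber hx hx1]
  have hsub : ∀ u ∈ S, u ≠ 1 → fiber S u ⊆ (S : Set G) \ {1} := fun u _ hu1 p hp =>
    ⟨hp.1, fun e => hu1 (by
      rw [Set.mem_singleton_iff] at e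
      exact isConj_one_left.mp (e ▸ hp.2))⟩
  have hS8 : ((S : Set G) \ {1}).ncard = 8 := by
    rw [Set.ncard_sdiff (by simpa using S.one_mem) (Set.toFinite _), ← Nat.card_coe_set_eq,
      Set.ncard_singleton]
    show Nat.card S - 1 = 8
    rw [hS.card]
  have hdis : ∀ u w : G, ¬ IsConj u w → Disjoint (fiber S u) (fiber S w) := fun u w h =>
    Set.disjoint_left.mpr fun p hp hp' => h (hp.2.trans hp'.2.symm)
  have h2 := htwo x hx hx1
  by_cases hcov : ∀ u ∈ S, u ≠ 1 → IsConj x u ∨ IsConj y u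
  · have hunion : fiber S x ∪ fiber S y = (S : Set G) \ {1} := by
      refine Set.Subset.antisymm (Set.union_subset (hsub x hx hx1) (hsub y hy hy1)) fun u hu => ?_
      rcases hcov u hu.1 (fun e => hu.2 (by simp [e])) with h | h
      exacts [Or.inl ⟨hu.1, h⟩, Or.inr ⟨hu.1, h⟩]
    have h4 : (fiber S x).ncard = 4 := by
      have h := Set.ncard_union_eq (hdis x y hxy) (Set.toFinite _) (Set.toFinite _)
      rw [hunion, hS8, hfibcard y hy hy1] at h
      omega
    have h4y : (fiber S y).ncard = 4 := (hfibcard y hy hy1).trans h4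
    obtain ⟨hF9, ha9, hb9, hc9⟩ := h9 hcov h4 h4y
    have hm : Nat.card {p : G × G // IsConj x p.1 ∧ IsConj x p.2 ∧ p.1 * p.2 = y} = 2 := by
      have hxinv : x⁻¹ ∈ fiber S x := ⟨S.inv_mem hx, hreal x (hS.cubed x hx)⟩
      have hxne : x ≠ x⁻¹ := fun e => hx1 (by
        have h2 : x * x = 1 := (congrArg (x * ·) e).trans (mul_inv_cancel x)
        have h3 := hS.cubed x hx
        rw [pow_three, h2, mul_one] at h3
        exact h3)
      obtain ⟨z, hz, hz'⟩ : ∃ z ∈ fiber S x, z ∉ ({x, x⁻¹} : Set G) := by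
        by_contra h
        push Not at h
        have := Set.ncard_le_ncard (show fiber S x ⊆ {x, x⁻¹} from h) (Set.toFinite _)
        rw [h4, Set.ncard_pair hxne] at this
        omega
      let φ : ZMod 3 × ZMod 3 → G := fun i => x ^ i.1.val * z ^ i.2.val
      have hzc : ∀ j, z ^ (j % 3) = z ^ j := fun j => (pow_eq_pow_mod j (hS.cubed z hz.1)).symm
      have hxc : ∀ j, x ^ (j % 3) = x ^ j := fun j => (pow_eq_pow_mod j (hS.cubed x hx)).symm
      have hφadd : ∀ i j, φ (i + j) = φ i * φ j := fun i j => by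
        simp only [φ, Prod.fst_add, Prod.snd_add, ZMod.val_add]
        rw [hxc, hzc, pow_add, pow_add]
        calc x ^ i.1.val * x ^ j.1.val * (z ^ i.2.val * z ^ j.2.val)
            = x ^ i.1.val * (x ^ j.1.val * z ^ i.2.val) * z ^ j.2.val := by simp only [mul_assoc]
          _ = x ^ i.1.val * (z ^ i.2.val * x ^ j.1.val) * z ^ j.2.val := by
            rw [((hS.comm hx hz.1).pow_pow _ _).eq]
          _ = _ := by simp only [mul_assoc]
      have hφ0 : φ 0 = 1 := by simp [φ]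
      simp only [Set.mem_insert_iff, Set.mem_singleton_iff, not_or] at hz'
      have hz1 : z ≠ 1 := fun e => hx1 (isConj_one_left.mp (e ▸ hz.2))
      have hxx : x * x = x⁻¹ := (inv_eq_of_mul_eq_one_right (by rw [← mul_assoc, ← pow_three', hS.cubed x hx])).symm
      have hzz : z * z = z⁻¹ := (inv_eq_of_mul_eq_one_right (by rw [← mul_assoc, ← pow_three', hS.cubed z hz.1])).symm
      have hker : ∀ i, φ i = 1 → i = 0 := by
        intro i hi
        have hall : ∀ a : ZMod 3, a = 0 ∨ a = 1 ∨ a = 2 := by decide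
        obtain ⟨i1, i2⟩ := i
        rcases hall i1 with e | e | e <;> rcases hall i2 with e' | e' | e' <;> subst e <;> subst e' <;>
          simp only [φ, ZMod.val_zero, ZMod.val_one, show (2 : ZMod 3).val = 2 from rfl, pow_zero, pow_one,
            pow_two, one_mul, mul_one, hxx, hzz] at hi
        · rfl
        · exact absurd hi hz1
        · exact absurd (inv_eq_one.mp hi) hz1
        · exact absurd hi hx1
        · exact absurd (eq_inv_of_mul_eq_one_right hi) hz'.2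
        · exact absurd (mul_inv_eq_one.mp hi).symm hz'.1
        · exact absurd (inv_eq_one.mp hi) hx1
        · exact absurd (inv_mul_eq_one.mp hi).symm hz'.1
        · exact absurd (by rw [eq_comm, ← inv_inj]; exact inv_eq_of_mul_eq_one_right hi |>.trans (by simp)) hz'.2
      have hφinj : Function.Injective φ := fun i j e => by
        have h : φ (i - j) * φ j = φ i := by rw [← hφadd, sub_add_cancel]
        rw [e] at h
        exact sub_eq_zero.mp (hker _ (mul_eq_right.mp h))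
      have hφmem : ∀ i, φ i ∈ S := fun i => S.mul_mem (S.pow_mem hx _) (S.pow_mem hz.1 _)
      obtain ⟨cy, hcy⟩ : ∃ i, φ i = y := by
        have hbij := (Nat.bijective_iff_injective_and_card (fun i => (⟨φ i, hφmem i⟩ : S))).mpr
          ⟨fun i j e => hφinj (congrArg Subtype.val e),
            by rw [hS.card, Nat.card_prod, Nat.card_zmod]⟩
        obtain ⟨i, hi⟩ := hbij.2 ⟨y, hy⟩
        exact ⟨i, congrArg Subtype.val hi⟩
      let X0 : Finset (ZMod 3 × ZMod 3) := {(1, 0), (2, 0), (0, 1), (0, 2)}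
      have hval' : φ (1, 0) = x ∧ φ (2, 0) = x⁻¹ ∧ φ (0, 1) = z ∧ φ (0, 2) = z⁻¹ := by
        simp [φ, show (2 : ZMod 3).val = 2 from rfl, pow_two, hxx, hzz, ZMod.val_one]
      have hX0 : fiber S x = φ '' X0 := by
        refine (Set.eq_of_subset_of_ncard_le ?_ ?_ (Set.toFinite _)).symm
        · rintro _ ⟨i, hi, rfl⟩
          simp only [X0, Finset.coe_insert, Finset.coe_singleton, Set.mem_insert_iff, Set.mem_singleton_iff] at hi
          rcases hi with e | e | e | e <;> subst e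
          · rw [hval'.1]; exact ⟨hx, IsConj.refl _⟩
          · rw [hval'.2.1]; exact hxinv
          · rw [hval'.2.2.1]; exact hz
          · rw [hval'.2.2.2]; exact ⟨S.inv_mem hz.1, hz.2.trans (hreal z (hS.cubed z hz.1))⟩
        · rw [h4, Set.ncard_image_of_injective _ hφinj, Set.ncard_coe_finset]; rfl
      have hmemX0 : ∀ i, φ i ∈ fiber S x ↔ i ∈ X0 := fun i => by
        rw [hX0, hφinj.mem_set_image, Finset.mem_coe]
      rw [← eq_nine_count cy (fun e => hy1 (by rw [← hcy, e, hφ0]))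
        (fun e => hxy ((hmemX0 cy).mpr e |> fun h => hcy ▸ h.2)), ← Nat.card_eq_finsetCard]
      refine (Nat.card_congr (Equiv.ofBijective
        (fun i => (⟨(φ i.1, φ (cy - i.1)), ?_⟩ : {p : G × G // IsConj x p.1 ∧ IsConj x p.2 ∧ p.1 * p.2 = y}))
        ⟨?_, ?_⟩)).symm
      · have hi := Finset.mem_filter.mp i.2
        exact ⟨((hmemX0 _).mpr hi.1).2, ((hmemX0 _).mpr hi.2).2, by
          show φ i.1 * φ (cy - i.1) = y
          rw [← hφadd, add_sub_cancel, hcy]⟩
      · intro i j e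
        exact Subtype.ext (hφinj (congrArg (fun p => p.1.1) e))
      · rintro ⟨⟨p, q⟩, hp, hq, hpq⟩
        obtain ⟨hpf, hqf⟩ := hinS p q hp hq hpq
        obtain ⟨i, hi, rfl⟩ := hX0 ▸ hpf
        have hqe : φ (cy - i) = q := by
          have h : φ i * φ (cy - i) = φ i * q := by rw [← hφadd, add_sub_cancel, hcy, hpq]
          exact mul_left_cancel h
        exact ⟨⟨i, Finset.mem_filter.mpr ⟨hi, (hmemX0 _).mp (hqe ▸ hqf)⟩⟩,
          Subtype.ext (Prod.ext rfl hqe)⟩
    refine arith_four hF9 ha9 hb9 hc9 (fun e => ha2.1 (by rw [e]; norm_num))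
      (fun e => hb2.1 (by rw [e]; norm_num)) (fun e => hc2.1 (by rw [e]; norm_num)) hsum hsq ?_
    rw [← heq, hm]
    norm_num
  · exfalso
    push Not at hcov
    obtain ⟨w, hw, hw1, hwx, hwy⟩ := hcov
    have hk : (fiber S x).ncard = 2 := by
      have hle := Set.ncard_le_ncard (Set.union_subset (Set.union_subset (hsub x hx hx1) (hsub y hy hy1))
        (hsub w hw hw1)) (Set.toFinite _)
      rw [Set.ncard_union_eq (Set.disjoint_union_left.mpr ⟨hdis x w hwx, hdis y w hwy⟩)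
        (Set.toFinite _) (Set.toFinite _), Set.ncard_union_eq (hdis x y hxy) (Set.toFinite _) (Set.toFinite _),
        hS8, hfibcard y hy hy1, hfibcard w hw hw1] at hle
      omega
    have hxne : x ≠ x⁻¹ := fun e => hx1 (by
      have h2 : x * x = 1 := (congrArg (x * ·) e).trans (mul_inv_cancel x)
      have h3 := hS.cubed x hx
      rw [pow_three, h2, mul_one] at h3
      exact h3)
    have hfx : fiber S x = {x, x⁻¹} := (Set.eq_of_subset_of_ncard_le (by
      rintro p (rfl | rfl)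
      exacts [⟨hx, IsConj.refl _⟩, ⟨S.inv_mem hx, hreal x (hS.cubed x hx)⟩])
      (by rw [hk, Set.ncard_pair hxne]) (Set.toFinite _)).symm
    have hm : Nat.card {p : G × G // IsConj x p.1 ∧ IsConj x p.2 ∧ p.1 * p.2 = y} = 0 := by
      rw [Nat.card_eq_zero]
      left
      refine ⟨fun ⟨⟨p, q⟩, hp, hq, hpq⟩ => ?_⟩
      obtain ⟨hpf, hqf⟩ := hinS p q hp hq hpq
      have hxx : x * x = x⁻¹ := (inv_eq_of_mul_eq_one_right (by rw [← mul_assoc, ← pow_three', hS.cubed x hx])).symm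
      have hxi : x⁻¹ * x⁻¹ = x := by rw [← mul_inv_rev, hxx, inv_inv]
      rw [hfx] at hpf hqf
      simp only [Set.mem_insert_iff, Set.mem_singleton_iff] at hpf hqf
      have hy' : y = p * q := hpq.symm
      rcases hpf with e | e <;> rcases hqf with e' | e' <;> rw [e, e'] at hy'
      · exact hxy (hy' ▸ hxx ▸ hreal x (hS.cubed x hx))
      · exact hy1 (hy'.trans (mul_inv_cancel x))
      · exact hy1 (hy'.trans (inv_mul_cancel x))
      · exact hxy (by rw [hy', hxi])
    refine arith_two hF ha hb hc hF2 ha2 hb2 hc2 hsum ?_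
    rw [← heq, hm]
    norm_num

end Cfsg.Agent.SelfCentNine
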