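import Cfsg.Agent.Lib.SelfCentNine.Chars
import Cfsg.Agent.Lib.ThreeSquareDihedral.Linear
import Cfsg.Agent.Lib.SelfCentPrime.Derived
import Cfsg.Agent.Lib.Coprime.Generation
import Cfsg.Agent.Lib.AltAut.Odd
import Cfsg.Agent.Lib.Linear.GenTools
import Cfsg.Agent.S0497

/-!
# Recognition of the symmetric group of degree six

* `mulEquiv_perm_six` : a group with an embedded `3^2:D8` and no normal plane is `S6`
-/

set_option autoImplicit false
set_option linter.unusedSectionVars false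

namespace Cfsg.Agent.SelfCentNine

open Subgroup ThreeSquareDihedral

theorem plane_cent : ∀ x m : Q, m.right = 1 → m ≠ 1 → x * m = m * x →
    x.right = 1 ∨ kind x = .invAxis ∨ kind x = .sixAxis ∨ kind x = .invDiag ∨ kind x = .sixDiag := by
  decide +kernel

theorem plane_span : ∀ m v : Q, m.right = 1 → m ≠ 1 → v.right = 1 →
    ∃ g h : DihedralGroup 4, v = 1 ∨
      v = SemidirectProduct.inr g * m * (SemidirectProduct.inr g)⁻¹ ∨
      v = SemidirectProduct.inr g * m * (SemidirectProduct.inr g)⁻¹ *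
        (SemidirectProduct.inr h * m * (SemidirectProduct.inr h)⁻¹) := by
  decide +kernel

theorem plane_classes : ∀ m : Q, m.right = 1 → m ≠ 1 → ∃ y : Q,
    (kind y ≠ .invAxis ∧ kind y ≠ .sixAxis ∧ kind y ≠ .invDiag ∧ kind y ≠ .sixDiag) ∧
    (m = y * el 1 0 1 * y⁻¹ ∨ m = y * el 1 1 1 * y⁻¹) := by
  decide +kernel

theorem plane_not_conj : ∀ y : Q, el 1 1 1 ≠ y * el 1 0 1 * y⁻¹ := by decide +kernel

theorem plane_facts : (el 1 0 1).right = 1 ∧ el 1 0 1 ≠ 1 ∧ (el 1 1 1).right = 1 ∧ el 1 1 1 ≠ 1 ∧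
    kind tAxis = .invAxis := by decide +kernel

variable {G : Type*} [Group G] [Finite G] {S : Subgroup G} {π : Q →* G}

theorem mulEquiv_perm_six (E : Embedded π) (P : Sylow 3 G) (hSP : S = P) (hcard : Nat.card S = 9)
    (hexp : ∀ a ∈ S, a ^ 3 = 1) (hC : centralizer (S : Set G) = S)
    (hplane : ∀ m, m ∈ S ↔ ∃ x : Q, x.right = 1 ∧ π x = m)
    (hnorm : normalizer (S : Set G) = π.range) (hnn : ¬ S.Normal) :
    Nonempty (G ≃* Equiv.Perm (Fin 6)) := by
  classical
  have h3p : Fact (Nat.Prime 3) := ⟨Nat.prime_three⟩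
  have hnot27 : ¬ 27 ∣ Nat.card G := fun h => by
    obtain ⟨R, hR⟩ := Sylow.exists_subgroup_card_pow_prime 3 (show 3 ^ 3 ∣ Nat.card G from h)
    obtain ⟨T, hT⟩ := (IsPGroup.of_card hR).exists_le_sylow
    have h1 := card_dvd_of_le hT
    rw [T.card_eq_multiplicity, ← P.card_eq_multiplicity, ← hSP, hcard, hR] at h1
    norm_num at h1
  have hpmem : ∀ x : Q, x.right = 1 → π x ∈ S := fun x hx => (hplane _).mpr ⟨x, hx, rfl⟩
  have hmem1 : ∀ {x : Q}, x ≠ 1 → π x ≠ 1 := fun hx h => hx (E.inj (h.trans (map_one π).symm))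
  obtain ⟨hax, hax1, hdg, hdg1, hkA⟩ := plane_facts
  obtain ⟨K, hKn, hKp, hK⟩ := E.exists_kernel
  have hSK : S ≤ K := fun s hs => by
    obtain ⟨x, hx, rfl⟩ := (hplane s).mp hs
    exact hKp x hx
  have hSc : IsMulCommutative S := ⟨⟨fun a b => Subtype.ext
    (mem_centralizer_iff.mp ((hC.symm ▸ b.2 : (b : G) ∈ centralizer (S : Set G))) a a.2)⟩⟩
  -- centralizers in `K`
  have hcK : ∀ s ∈ S, s ≠ 1 → ∀ g ∈ K, Commute g s → g ∈ S := by
    intro s hs hs1 g hg hc
    obtain ⟨m, hm, rfl⟩ := (hplane s).mp hs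
    have hm1 : m ≠ 1 := fun e => hs1 (by rw [e, map_one])
    obtain ⟨x, rfl⟩ := E.cent m hm hm1 (mem_centralizer_singleton_iff.mpr hc.eq)
    obtain ⟨h1, h2, h3, h4⟩ := (hK x).mp hg
    have hxm : x * m = m * x := E.inj (by rw [map_mul, map_mul, hc.eq])
    rcases plane_cent x m hm hm1 hxm with h | h | h | h | h
    exacts [hpmem x h, absurd h h1, absurd h h2, absurd h h3, absurd h h4]
  -- no normal subgroups of order prime to three
  have hO : ∀ W : Subgroup G, W.Normal → ¬ 3 ∣ Nat.card W → W = ⊥ := by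
    intro W hW h3
    have hnc : ¬ IsCyclic S := fun hcy => by
      obtain ⟨g, hg⟩ := hcy.exists_generator
      have h1 : orderOf g = 9 := by rw [orderOf_eq_card_of_forall_mem_zpowers hg, hcard]
      have h2 : orderOf g ∣ 3 := orderOf_dvd_of_pow_eq_one (Subtype.ext (hexp g g.2))
      rw [h1] at h2
      norm_num at h2
    have hcop : (Nat.card S).Coprime (Nat.card (W ⊓ K : Subgroup G)) := by
      rw [hcard, show 9 = 3 ^ 2 by norm_num]
      exact Nat.Coprime.pow_left 2 ((Nat.prime_three.coprime_iff_not_dvd).mpr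
        fun h => h3 (h.trans (card_dvd_of_le inf_le_left)))
    have hnW : (W ⊓ K).Normal := inferInstance
    have hb := Coprime.le_of_noncyclic (A := S) (K := W ⊓ K) (W := ⊥) hnc
      (by rw [normalizer_eq_top_iff.mpr hnW]; exact le_top) hcop (by
        rintro a ha ha1 w ⟨⟨hwW, hwK⟩, hwc⟩
        have hwS := hcK a ha ha1 w hwK (mem_centralizer_singleton_iff.mp hwc)
        have h1 : orderOf w ∣ 3 := orderOf_dvd_of_pow_eq_one (hexp w hwS)
        rcases (Nat.dvd_prime Nat.prime_three).mp h1 with h | h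
        · exact mem_bot.mpr (orderOf_eq_one_iff.mp h)
        · exact absurd (h ▸ Subgroup.orderOf_dvd_natCard W hwW) h3)
    rw [eq_bot_iff]
    intro w hw
    have hwS : w ∈ S := by
      rw [← hC]
      intro s hs
      have hmem : w * s * w⁻¹ * s⁻¹ ∈ W ⊓ K := by
        refine ⟨?_, ?_⟩
        · have := W.mul_mem hw (hW.conj_mem _ (W.inv_mem hw) s)
          simpa [mul_assoc] using this
        · exact K.mul_mem (hKn.conj_mem s (hSK hs) w) (K.inv_mem (hSK hs))
      have := mem_bot.mp (hb hmem)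
      exact (mul_inv_eq_iff_eq_mul.mp (mul_inv_eq_one.mp this)).symm
    have h1 : orderOf w ∣ 3 := orderOf_dvd_of_pow_eq_one (hexp w hwS)
    rcases (Nat.dvd_prime Nat.prime_three).mp h1 with h | h
    · exact mem_bot.mpr (orderOf_eq_one_iff.mp h)
    · exact absurd (h ▸ Subgroup.orderOf_dvd_natCard W hw) h3
  have hsyl : ∀ g : G, g ^ 3 = 1 → ∃ c : G, c * g * c⁻¹ ∈ S := by
    intro g hg
    have hp : IsPGroup 3 (zpowers g) := by
      obtain ⟨k, -, hk⟩ := (Nat.dvd_prime_pow Nat.prime_three).mp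
        (orderOf_dvd_of_pow_eq_one (show g ^ 3 ^ 1 = 1 by simpa using hg))
      exact IsPGroup.of_card (n := k) (by rw [Nat.card_zpowers, hk])
    obtain ⟨T, hT⟩ := hp.exists_le_sylow
    obtain ⟨c, hc⟩ := MulAction.exists_smul_eq G T P
    refine ⟨c, ?_⟩
    rw [hSP, ← hc]
    exact ⟨g, hT (mem_zpowers g), rfl⟩
  -- a minimal normal subgroup inside `K`
  obtain ⟨L, ⟨hLn, hLne, hLK⟩, hLmin⟩ :=
    (Set.toFinite {L : Subgroup G | L.Normal ∧ L ≠ ⊥ ∧ L ≤ K}).exists_minimal ⟨K, hKn, fun h => by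
      have := hSK.trans h.le (hpmem _ hax)
      exact hmem1 hax1 (mem_bot.mp this), le_rfl⟩
  have h3L : 3 ∣ Nat.card L := by_contra fun h => hLne (hO L hLn h)
  have hSL : S ≤ L := by
    obtain ⟨u, hu⟩ := exists_prime_orderOf_dvd_card' (G := L) 3 h3L
    rw [← Subgroup.orderOf_coe] at hu
    obtain ⟨c, hc⟩ := hsyl (u : G) (hu ▸ pow_orderOf_eq_one (u : G))
    obtain ⟨m, hm, hme⟩ := (hplane _).mp hc
    have hmL : π m ∈ L := hme ▸ hLn.conj_mem u u.2 c
    have hm1 : m ≠ 1 := fun e => by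
      rw [e, map_one, eq_comm, conj_eq_one_iff] at hme
      rw [hme, orderOf_one] at hu
      omega
    intro s hs
    obtain ⟨v, hv, rfl⟩ := (hplane s).mp hs
    obtain ⟨y, y', e⟩ := plane_span m v hm hm1 hv
    rcases e with e | e | e <;> rw [e]
    · rw [map_one]; exact L.one_mem
    · rw [map_mul, map_mul, map_inv]; exact hLn.conj_mem _ hmL _
    · rw [map_mul]
      refine L.mul_mem ?_ ?_ <;> (rw [map_mul, map_mul, map_inv]; exact hLn.conj_mem _ hmL _)
  have hS3 : ¬ 3 ∣ (S.subgroupOf L).index := fun h => hnot27 (by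
    have h1 := card_mul_index (S.subgroupOf L)
    rw [Nat.card_congr (subgroupOfEquivOfLe hSL).toEquiv, hcard] at h1
    have h2 : 9 * 3 ∣ Nat.card G := (Nat.mul_dvd_mul_left 9 h).trans (h1 ▸ card_subgroup_dvd_card L)
    exact h2)
  let S' := S.subgroupOf L
  have hS'mem : ∀ u : L, u ∈ S' ↔ (u : G) ∈ S := fun u => mem_subgroupOf
  have hsylL : ∀ u : L, u ^ 3 = 1 → ∃ c : L, c * u * c⁻¹ ∈ S' := by
    intro u hu
    have hp : IsPGroup 3 (zpowers u) := by
      obtain ⟨k, -, hk⟩ := (Nat.dvd_prime_pow Nat.prime_three).mp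
        (orderOf_dvd_of_pow_eq_one (show u ^ 3 ^ 1 = 1 by simpa using hu))
      exact IsPGroup.of_card (n := k) (by rw [Nat.card_zpowers, hk])
    obtain ⟨T, hT⟩ := hp.exists_le_sylow
    obtain ⟨c, hc⟩ := MulAction.exists_smul_eq L T (P.subtype (N := L) (hSP ▸ hSL))
    refine ⟨c, ?_⟩
    rw [show S' = ((P.subtype (N := L) (hSP ▸ hSL) : Sylow 3 L) : Subgroup L) by
      rw [Sylow.coe_subtype, ← hSP], ← hc]
    exact ⟨u, hT (mem_zpowers u), rfl⟩
  -- `L` is simple
  have hsimple : IsSimpleGroup L := by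
    have hnontriv : Nontrivial L := (nontrivial_iff_ne_bot L).mpr hLne
    refine ⟨fun T hT => ?_⟩
    by_contra hTT
    push Not at hTT
    obtain ⟨T₀, ⟨hT₀n, hT₀ne, hT₀T⟩, hT₀min⟩ :=
      (Set.toFinite {U : Subgroup L | U.Normal ∧ U ≠ ⊥ ∧ U ≤ T}).exists_minimal ⟨T, hT, hTT.1, le_rfl⟩
    have hT₀top : T₀ ≠ ⊤ := fun e => hTT.2 (top_le_iff.mp (e ▸ hT₀T))
    have hmin : ∀ U : Subgroup L, U.Normal → U ≤ T₀ → U = ⊥ ∨ U = T₀ := fun U hU hle => by
      by_cases h : U = ⊥
      · exact Or.inl h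
      · exact Or.inr (le_antisymm hle (hT₀min ⟨hU, h, hle.trans hT₀T⟩ hle))
    -- `3` divides every normal subgroup
    have h3T : ∀ U : Subgroup L, U.Normal → U ≠ ⊥ → 3 ∣ Nat.card U := fun U hU hUne => by
      by_contra h
      have := SelfCentPrime.pPrimeCore_characteristic 3 L
      have hc : ¬ 3 ∣ Nat.card ((Cfsg.pPrimeCore 3 L).map L.subtype) := by
        rw [← Nat.card_congr (equivMapOfInjective _ _ L.subtype_injective).toEquiv]
        exact Nat.prime_three.coprime_iff_not_dvd.mp (SelfCentPrime.card_pPrimeCore_coprime 3 L).symm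
      have hb := hO _ inferInstance hc
      rw [map_eq_bot_iff_of_injective _ L.subtype_injective] at hb
      exact hUne (le_bot_iff.mp (hb ▸ le_sSup ⟨hU, (Nat.prime_three.coprime_iff_not_dvd.mpr h).symm⟩))
    obtain ⟨g, hg⟩ : ∃ g : G, T₀.map (MulAut.conjNormal g : MulAut L).toMonoidHom ≠ T₀ := by
      by_contra h
      push Not at h
      have hn : (T₀.map L.subtype).Normal := ⟨fun z hz g => by
        obtain ⟨u, hu, rfl⟩ := hz
        exact ⟨MulAut.conjNormal g u, h g ▸ mem_map_of_mem _ hu, rfl⟩⟩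
      have hle := hLmin ⟨hn, fun e => hT₀ne ((map_eq_bot_iff_of_injective _ L.subtype_injective).mp e),
        (map_subtype_le T₀).trans hLK⟩ (map_subtype_le T₀)
      refine hT₀top (eq_top_iff.mpr fun u _ => ?_)
      obtain ⟨v, hv, hvu⟩ := hle u.2
      exact Subtype.ext hvu ▸ hv
    set T₁ := T₀.map (MulAut.conjNormal g : MulAut L).toMonoidHom
    have hT₁n : T₁.Normal := hT₀n.map _ (MulEquiv.surjective _)
    have hdis : Disjoint T₀ T₁ := by
      rw [disjoint_iff]
      rcases hmin (T₀ ⊓ T₁) inferInstance inf_le_left with h | h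
      · exact h
      · exfalso
        have hle : T₀ ≤ T₁ := h ▸ inf_le_right
        exact hg (eq_of_le_of_card_ge hle
          (Nat.card_congr (equivMapOfInjective _ _ (MulEquiv.injective _)).toEquiv.symm).le).symm
    have hT₁ne : T₁ ≠ ⊥ := fun e =>
      hT₀ne ((map_eq_bot_iff_of_injective _ (MulEquiv.injective _)).mp e)
    have hcomm := commute_of_normal_of_disjoint T₀ T₁ hT₀n hT₁n hdis
    obtain ⟨a, ha⟩ := exists_prime_orderOf_dvd_card' (G := T₀) 3 (h3T T₀ hT₀n hT₀ne)
    obtain ⟨b, hb⟩ := exists_prime_orderOf_dvd_card' (G := T₁) 3 (h3T T₁ hT₁n hT₁ne)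
    rw [← Subgroup.orderOf_coe] at ha hb
    obtain ⟨c, hc⟩ := hsylL (a : L) (ha ▸ pow_orderOf_eq_one _)
    have hord : ∀ {w : L}, orderOf w = 3 → w ≠ 1 := fun h e => by rw [e, orderOf_one] at h; omega
    -- everything commuting with `a` lies in a conjugate of `S'`
    have hin : ∀ (w : L) (hw : orderOf w = 3) (d : L), d * w * d⁻¹ ∈ S' → ∀ u : L, Commute u w →
        d * u * d⁻¹ ∈ S' := fun w hw d hd u hu => by
      refine (hS'mem _).mpr (hcK _ ((hS'mem _).mp hd) (fun e => hord hw (conj_eq_one_iff.mp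
        (Subtype.ext (e.trans L.coe_one.symm)))) _ (hLK (d * u * d⁻¹).2) ?_)
      have h := hu.map (MulAut.conj d).toMonoidHom
      exact congrArg Subtype.val h.eq
    have hbS : c * b * c⁻¹ ∈ S' := hin a ha c hc b (hcomm a b a.2 b.2).symm
    have hT₀S : ∀ u ∈ T₀, c * u * c⁻¹ ∈ S' := fun u hu => hin b hb c hbS u (hcomm u b hu b.2)
    have hT₁S : ∀ u ∈ T₁, c * u * c⁻¹ ∈ S' := fun u hu => hin a ha c hc u (hcomm a u a.2 hu).symm
    -- so `S'` is normal
    have hle : T₀ ⊔ T₁ ≤ S' := by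
      refine sup_le (fun u hu => ?_) (fun u hu => ?_)
      · have := hT₀S _ (hT₀n.conj_mem u hu c⁻¹)
        simpa [mul_assoc] using this
      · have := hT₁S _ (hT₁n.conj_mem u hu c⁻¹)
        simpa [mul_assoc] using this
    have hS'card : Nat.card S' = 9 := by
      rw [Nat.card_congr (subgroupOfEquivOfLe hSL).toEquiv, hcard]
    have heq : T₀ ⊔ T₁ = S' := by
      refine eq_of_le_of_card_ge hle ?_
      have h9 : Nat.card (zpowers (a : L) ⊔ zpowers (b : L) : Subgroup L) ∣ 9 :=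
        hS'card ▸ card_dvd_of_le (le_trans (sup_le (zpowers_le.mpr (mem_sup_left a.2))
          (zpowers_le.mpr (mem_sup_right b.2))) hle)
      have hab : zpowers (a : L) ⊔ zpowers (b : L) ≤ T₀ ⊔ T₁ :=
        sup_le (zpowers_le.mpr (mem_sup_left a.2)) (zpowers_le.mpr (mem_sup_right b.2))
      rw [hS'card]
      refine le_trans ?_ (Subgroup.card_le_of_le hab)
      rw [show (9 : ℕ) = 3 ^ 2 by norm_num] at h9 ⊢
      obtain ⟨k, hk, hke⟩ := (Nat.dvd_prime_pow Nat.prime_three).mp h9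
      rw [hke]
      refine Nat.pow_le_pow_right (by norm_num) ?_
      by_contra hlt
      have hle3 : Nat.card (zpowers (a : L) ⊔ zpowers (b : L) : Subgroup L) ≤ 3 :=
        hke ▸ le_trans (Nat.pow_le_pow_right (by norm_num) (show k ≤ 1 by omega)) (by norm_num)
      have e1 : zpowers (a : L) = zpowers (a : L) ⊔ zpowers (b : L) :=
        eq_of_le_of_card_ge le_sup_left (by rw [Nat.card_zpowers, ha]; exact hle3)
      have hbT : (b : L) ∈ T₀ := (zpowers_le.mpr a.2 : zpowers (a : L) ≤ T₀)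
        (e1 ▸ mem_sup_right (mem_zpowers _))
      exact hord hb (disjoint_def.mp hdis hbT b.2)
    have hS'n : S'.Normal := heq ▸ sup_normal _ _
    have hall : ∀ u : L, u ^ 3 = 1 → u ∈ S' := fun u hu => by
      obtain ⟨d, hd⟩ := hsylL u hu
      have := hS'n.conj_mem _ hd d⁻¹
      simpa [mul_assoc] using this
    refine hnn ⟨fun s hs d => (hS'mem ⟨d * s * d⁻¹, hLn.conj_mem s (hSL hs) d⟩).mp
      (hall _ (Subtype.ext ?_))⟩
    show (d * s * d⁻¹) ^ 3 = 1
    rw [conj_pow, hexp s hs, mul_one, mul_inv_cancel]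
  -- order 360
  have hS'N : Nine S' :=
    { card := by rw [Nat.card_congr (subgroupOfEquivOfLe hSL).toEquiv, hcard]
      cubed := fun a ha => Subtype.ext (hexp _ ((hS'mem a).mp ha))
      cent := fun s hs hs1 => by
        refine le_antisymm (fun u hu => (hS'mem u).mpr (hcK _ ((hS'mem s).mp hs)
          (fun e => hs1 (Subtype.ext e)) _ (hLK u.2) ?_)) (fun u hu => ?_)
        · exact congrArg Subtype.val (mem_centralizer_singleton_iff.mp hu)
        · refine mem_centralizer_singleton_iff.mpr (Subtype.ext ?_)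
          exact mem_centralizer_iff.mp (hC.symm ▸ (hS'mem u).mp hu : (u : G) ∈ centralizer (S : Set G)) s
            ((hS'mem s).mp hs) |>.symm
      sylow := hsylL }
  have hSP' : S' = ((P.subtype (N := L) (hSP ▸ hSL) : Sylow 3 L) : Subgroup L) := by
    rw [Sylow.coe_subtype, ← hSP]
  let x : L := ⟨π (el 1 0 1), hSL (hpmem _ hax)⟩
  let y : L := ⟨π (el 1 1 1), hSL (hpmem _ hdg)⟩
  have hxyG : ¬ IsConj (π (el 1 0 1)) (π (el 1 1 1)) := fun h => by
    obtain ⟨g, hg⟩ := isConj_iff.mp h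
    obtain ⟨z, hz⟩ := E.ti hax hax1 (y := el 1 1 1) (g := g) hg.symm
    exact plane_not_conj z (E.inj (by rw [map_mul, map_mul, map_inv, hz, hg]))
  have hxyL : ¬ IsConj x y := fun h => hxyG (MonoidHom.map_isConj L.subtype h)
  have h360 : Nat.card L = 360 := card_of_two_classes hS'N
    (fun p hp => hS'N.isConj_inv _ hSP' hp) ((hS'mem x).mpr (hpmem _ hax))
    (fun e => hmem1 hax1 (congrArg Subtype.val e)) ((hS'mem y).mpr (hpmem _ hdg))
    (fun e => hmem1 hdg1 (congrArg Subtype.val e)) hxyL (hS'N.two_le_fiber _ hSP')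
  -- the normalizer in `L`
  set N := normalizer (S : Set G) with hN
  have hN72 : Nat.card N = 72 := by rw [hnorm]; exact E.card_range
  have hSN : S ≤ N := le_normalizer
  have hLN : Nat.card (normalizer (S' : Set L)) = Nat.card (N ⊓ L : Subgroup G) := by
    rw [← subgroupOf_normalizer_eq hSL, inf_comm, ← Nat.card_congr (subgroupOfEquivOfLe inf_le_left).toEquiv,
      inf_subgroupOf_left]
  have hNK : (K.subgroupOf N).index ≠ 1 := fun h => by
    have h1 : π tAxis ∈ K := (subgroupOf_eq_top.mp (index_eq_one.mp h)) (hnorm ▸ ⟨_, rfl⟩)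
    exact ((hK tAxis).mp h1).1 hkA
  have hNKle : Nat.card (N ⊓ K : Subgroup G) ≤ Nat.card (K.subgroupOf N) :=
    Nat.card_le_card_of_injective (fun g => ⟨⟨g.1, g.2.1⟩, mem_subgroupOf.mpr g.2.2⟩)
      (fun a b h => Subtype.ext (congrArg (fun z : K.subgroupOf N => ((z : N) : G)) h))
  have hNLle : Nat.card (N ⊓ L : Subgroup G) ≤ Nat.card (K.subgroupOf N) :=
    (Subgroup.card_le_of_le (inf_le_inf_left _ hLK)).trans hNKle
  have hK36 : Nat.card (K.subgroupOf N) ≤ 36 := by
    have h := card_mul_index (K.subgroupOf N)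
    rw [hN72] at h
    have : 2 ≤ (K.subgroupOf N).index := by
      have : (K.subgroupOf N).index ≠ 0 := index_ne_zero_of_finite
      omega
    nlinarith
  have hNL : Nat.card (N ⊓ L : Subgroup G) = 36 := by
    let P' := P.subtype (N := L) (hSP ▸ hSL)
    have hmod := card_sylow_modEq_one 3 L
    have hn : Nat.card (Sylow 3 L) * Nat.card (N ⊓ L : Subgroup G) = 360 := by
      have hidx : Nat.card (Sylow 3 L) = (normalizer (S' : Set L)).index := by
        rw [P'.card_eq_index_normalizer, hSP']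
        rfl
      rw [hidx, ← hLN, mul_comm, card_mul_index, h360]
    have h9 : 9 ∣ Nat.card (N ⊓ L : Subgroup G) := hcard ▸ card_dvd_of_le (le_inf hSN hSL)
    obtain ⟨u, hu, huinv⟩ := hS'N.inverts P' hSP'
    have hlt : 9 < Nat.card (N ⊓ L : Subgroup G) := by
      rw [← hLN, ← hS'N.card]
      refine lt_of_le_of_ne (Subgroup.card_le_of_le le_normalizer) fun h => hu ?_
      rw [eq_of_le_of_card_ge le_normalizer h.ge]
      refine mem_normalizer_iff.mpr fun s => ⟨fun hs => by rw [huinv s hs]; exact inv_mem hs, fun hs => ?_⟩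
      have h2 := huinv _ (inv_mem hs)
      rw [inv_inv] at h2
      have h3 : (u * s * u⁻¹)⁻¹ = s := mul_left_cancel (mul_right_cancel h2)
      exact h3 ▸ inv_mem hs
    obtain ⟨k, hk⟩ := h9
    have hle := hNLle.trans hK36
    rw [hk] at hn hlt hle ⊢
    have hk4 : k = 2 ∨ k = 3 ∨ k = 4 := by omega
    unfold Nat.ModEq at hmod
    rcases hk4 with rfl | rfl | rfl <;> omega
  -- fusion in `L`
  have hmemL : ∀ q : Q, (kind q ≠ .invAxis ∧ kind q ≠ .sixAxis ∧ kind q ≠ .invDiag ∧ kind q ≠ .sixDiag) →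
      π q ∈ L := fun q hq => by
    have heq : N ⊓ L = N ⊓ K := eq_of_le_of_card_ge (inf_le_inf_left _ hLK)
      (by rw [hNL]; exact hNKle.trans hK36)
    have h : π q ∈ N ⊓ K := ⟨hnorm ▸ ⟨q, rfl⟩, (hK q).mpr hq⟩
    exact (heq.symm ▸ h : π q ∈ N ⊓ L).2
  have hclass : ∀ u : L, orderOf u = 3 → IsConj u x ∨ IsConj u y := by
    intro u hu
    obtain ⟨c, hc⟩ := hsylL u (hu ▸ pow_orderOf_eq_one u)
    obtain ⟨m, hm, hme⟩ := (hplane _).mp ((hS'mem _).mp hc)
    have hm1 : m ≠ 1 := fun e => by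
      rw [e, map_one] at hme
      rw [conj_eq_one_iff.mp (Subtype.ext hme.symm : c * u * c⁻¹ = 1), orderOf_one] at hu
      omega
    obtain ⟨q, hq, hq'⟩ := plane_classes m hm hm1
    have hcu : IsConj u (c * u * c⁻¹) := isConj_iff.mpr ⟨c, rfl⟩
    rcases hq' with e | e <;> rw [e, map_mul, map_mul, map_inv] at hme
    · exact Or.inl (hcu.trans (isConj_iff.mpr ⟨(⟨π q, hmemL q hq⟩ : L), Subtype.ext hme⟩ : IsConj x _).symm)
    · exact Or.inr (hcu.trans (isConj_iff.mpr ⟨(⟨π q, hmemL q hq⟩ : L), Subtype.ext hme⟩ : IsConj y _).symm)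
  have hpres : ∀ (g : G) (u : L), orderOf u = 3 → IsConj u (MulAut.conjNormal g u) := by
    intro g u hu
    have hG : IsConj (u : G) ((MulAut.conjNormal g u : L) : G) :=
      isConj_iff.mpr ⟨g, (MulAut.conjNormal_apply g u).symm⟩
    have mG : ∀ {a b : L}, IsConj a b → IsConj (a : G) (b : G) := fun h => MonoidHom.map_isConj L.subtype h
    rcases hclass u hu with a | a <;> rcases hclass _ ((MulEquiv.orderOf_eq _ u).trans hu) with b | b
    · exact a.trans b.symm
    · exact absurd ((mG a).symm.trans (hG.trans (mG b))) hxyG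
    · exact absurd ((mG b).symm.trans (hG.symm.trans (mG a))) hxyG
    · exact a.trans b.symm
  -- the action on `L`
  obtain ⟨e⟩ := S0497.result h360
  let Φ : G →* MulAut (alternatingGroup (Fin 6)) := (MulAut.congr e).toMonoidHom.comp MulAut.conjNormal
  let ψ : Equiv.Perm (Fin 6) →* MulAut (alternatingGroup (Fin 6)) := MulAut.conjNormal
  have hψ : Function.Injective ψ := S2119.conjNormal_injective (by norm_num)
  have hrange : ∀ g, Φ g ∈ ψ.range := fun g => by
    obtain ⟨σ, hσ⟩ := AltAut.exists_conjNormal_of_threeCycle (by norm_num) (Φ g) (fun a ha => by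
      have hord : orderOf (e.symm a) = 3 := by
        rw [MulEquiv.orderOf_eq, ← Subgroup.orderOf_coe, ha.orderOf]
      obtain ⟨w, hw⟩ := isConj_iff.mp (hpres g _ hord)
      have he : Φ g a = e w * a * (e w)⁻¹ := by
        show e (MulAut.conjNormal g (e.symm a)) = _
        rw [← hw, map_mul, map_mul, map_inv, e.apply_symm_apply]
      rw [he]
      unfold Equiv.Perm.IsThreeCycle
      push_cast
      rw [Equiv.Perm.cycleType_conj]
      exact ha)
    exact ⟨σ, hσ⟩
  let φ : G →* Equiv.Perm (Fin 6) := (MonoidHom.ofInjective hψ).symm.toMonoidHom.comp (Φ.codRestrict ψ.range hrange)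
  have hφ : Function.Injective φ := by
    refine (MonoidHom.ofInjective hψ).symm.injective.comp ((injective_iff_map_eq_one _).mpr fun g hg => ?_)
    have hg' : MulAut.conjNormal g = (1 : MulAut L) := (MulAut.congr e).injective
      ((congrArg Subtype.val hg).trans (map_one _).symm)
    have hcg : ∀ l : L, Commute g l := fun l =>
      mul_inv_eq_iff_eq_mul.mp ((MulAut.conjNormal_apply g l).symm.trans
        (congrArg Subtype.val (DFunLike.congr_fun hg' l)))
    have hgS : g ∈ S := by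
      rw [← hC]
      exact mem_centralizer_iff.mpr fun s hs => ((hcg ⟨s, hSL hs⟩).symm).eq
    by_contra hg1
    have hle : L ≤ S := fun l hl => hcK g hgS hg1 l (hLK hl) (hcg ⟨l, hl⟩).symm
    have := Subgroup.card_le_of_le hle
    rw [h360, hcard] at this
    omega
  -- the Frattini argument
  have htop : N ⊔ L = ⊤ := by
    have h := (P.subtype (N := L) (hSP ▸ hSL)).normalizer_sup_eq_top
    rwa [← hSP', map_subgroupOf_eq_of_le hSL] at h
  have h720 : Nat.card G = 720 := by
    have h1 : L.index = L.relIndex N := by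
      rw [← relIndex_top_right, ← htop, relIndex_sup_right]
    have h2 := (L.subgroupOf N).card_mul_index
    have h3 : Nat.card (L.subgroupOf N) = 36 := by
      rw [← hNL, ← inf_subgroupOf_left]
      exact Nat.card_congr (subgroupOfEquivOfLe inf_le_left).toEquiv
    rw [hN72, h3] at h2
    rw [← card_mul_index L, h360, h1, relIndex]
    omega
  exact Linear.nonempty_mulEquiv_perm φ hφ (by rw [h720]; rfl)

end Cfsg.Agent.SelfCentNine
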