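import Cfsg.Agent.EqLemmas

/-!
# A self-centralizing Sylow 3-subgroup of order 9: group theory

`Nine G P` : the Sylow 3-subgroup has order 9, exponent 3, and is the centralizer of each of its
non-identity elements.
* `Nine.triangle` : if `p`, `q`, `p * q` have order 3 and `p`, `q` do not commute, then `q` is
  conjugate to `p` and `p * q` to `p * p`
* `Nine.inverts` : in a simple group some element of `N(S)` inverts `S`
* `Nine.card_fiber` : each class of elements of order 3 meets `S` in `|N(S) : S|` elements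
-/

set_option autoImplicit false
set_option linter.unusedSectionVars false

namespace Cfsg.Agent.SelfCentNine

open Subgroup

variable {G : Type*} [Group G]

/-- The hypothesis. -/
structure Nine (S : Subgroup G) : Prop where
  card : Nat.card S = 9
  cubed : ∀ a ∈ S, a ^ 3 = 1
  cent : ∀ s ∈ S, s ≠ 1 → centralizer ({s} : Set G) = S
  sylow : ∀ g : G, g ^ 3 = 1 → ∃ c : G, c * g * c⁻¹ ∈ S

variable {S : Subgroup G}

theorem Nine.comm (h : Nine S) {a b : G} (ha : a ∈ S) (hb : b ∈ S) : Commute a b := by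
  by_cases h1 : a = 1
  · rw [h1]; exact Commute.one_left b
  · have hb' : b ∈ centralizer ({a} : Set G) := (h.cent a ha h1).symm ▸ hb
    exact (show Commute b a from mem_centralizer_singleton_iff.mp hb').symm

theorem Nine.mem_of_commute (h : Nine S) {s g : G} (hs : s ∈ S) (h1 : s ≠ 1) (hc : Commute g s) :
    g ∈ S :=
  h.cent s hs h1 ▸ mem_centralizer_singleton_iff.mpr hc.eq

theorem commute_conj {a b : G} (h : Commute a b) (c : G) : Commute (c * a * c⁻¹) (c * b * c⁻¹) :=
  h.map (MulAut.conj c).toMonoidHom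

theorem commute_of_conj {a b c : G} (h : Commute (c * a * c⁻¹) (c * b * c⁻¹)) : Commute a b := by
  have := commute_conj h c⁻¹
  simpa [mul_assoc] using this

/-- Two elements centralizing an element of order 3 commute, and the centralizer has exponent 3. -/
theorem Nine.commute_of_commute (h : Nine S) {s a b : G} (hs : s ^ 3 = 1) (h1 : s ≠ 1)
    (ha : Commute a s) (hb : Commute b s) : Commute a b ∧ a ^ 3 = 1 := by
  obtain ⟨c, hc⟩ := h.sylow s hs
  have h1' : c * s * c⁻¹ ≠ 1 := fun e => h1 (conj_eq_one_iff.mp e)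
  have haS := h.mem_of_commute hc h1' (commute_conj ha c)
  have hbS := h.mem_of_commute hc h1' (commute_conj hb c)
  refine ⟨commute_of_conj (h.comm haS hbS), ?_⟩
  have := h.cubed _ haS
  rw [conj_pow] at this
  exact conj_eq_one_iff.mp this

variable [Finite G]

theorem conj_thrice {p : G} (hp : p ^ 3 = 1) (g : G) : p * (p * (p * g * p⁻¹) * p⁻¹) * p⁻¹ = g := by
  calc p * (p * (p * g * p⁻¹) * p⁻¹) * p⁻¹ = p ^ 3 * g * (p ^ 3)⁻¹ := by simp only [pow_three]; group
    _ = g := by rw [hp]; group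

/-- An element of order 3 fixing no non-identity element of `Y` is conjugate to every element of its coset. -/
theorem exists_conj_eq {p : G} {Y : Subgroup G} (hY : ∀ g ∈ Y, p * g * p⁻¹ ∈ Y)
    (hfix : ∀ g ∈ Y, Commute g p → g = 1) {h : G} (hh : h ∈ Y) : ∃ g ∈ Y, g * p * g⁻¹ = h * p := by
  let f : Y → Y := fun g => ⟨(g : G) * (p * (g : G)⁻¹ * p⁻¹), Y.mul_mem g.2 (hY _ (Y.inv_mem g.2))⟩
  have hf : Function.Injective f := by
    intro a b e
    have e' : (a : G) * (p * (a : G)⁻¹ * p⁻¹) = b * (p * (b : G)⁻¹ * p⁻¹) := congrArg Subtype.val e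
    refine Subtype.ext (inv_mul_eq_one.mp (hfix _ (Y.mul_mem (Y.inv_mem b.2) a.2) ?_)).symm
    show (b : G)⁻¹ * a * p = p * ((b : G)⁻¹ * a)
    calc (b : G)⁻¹ * a * p = (b : G)⁻¹ * (a * (p * (a : G)⁻¹ * p⁻¹)) * (p * a) := by group
      _ = (b : G)⁻¹ * (b * (p * (b : G)⁻¹ * p⁻¹)) * (p * a) := by rw [e']
      _ = _ := by group
  obtain ⟨g, hg⟩ := Finite.surjective_of_injective hf ⟨h, hh⟩
  refine ⟨g, g.2, ?_⟩
  have e : (g : G) * (p * (g : G)⁻¹ * p⁻¹) = h := congrArg Subtype.val hg
  rw [← e]; group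

/-- The (3,3,3) triangle group is an abelian group extended by 3. -/
theorem Nine.triangle (h : Nine S) {p q : G} (hp : p ^ 3 = 1) (hp1 : p ≠ 1) (hq : q ^ 3 = 1)
    (hpq : (p * q) ^ 3 = 1) (hne : ¬ Commute p q) : IsConj p q ∧ IsConj (p * p) (p * q) := by
  set a := p⁻¹ * q with ha
  set a' := p * a * p⁻¹ with ha'
  set a'' := p * a' * p⁻¹ with ha''
  have hpi : p⁻¹ = p * p := inv_eq_of_mul_eq_one_right (by rw [← mul_assoc, ← pow_three', hp])
  have hqp : (q * p) ^ 3 = 1 := by
    have e : q * p = p⁻¹ * (p * q) * (p⁻¹)⁻¹ := by group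
    rw [e, conj_pow, hpq]; group
  have h2 : a'' = p * q * p := by
    calc a'' = p * q * (p⁻¹ * p⁻¹) := by rw [ha'', ha', ha]; group
      _ = p * q * p := by
        rw [hpi, show p * p * (p * p) = p ^ 3 * p by simp only [pow_three, mul_assoc], hp, one_mul]
  have e1 : a * a' * a'' = 1 := by
    calc a * a' * a'' = p⁻¹ * q ^ 3 * p := by rw [h2, ha', ha]; simp only [pow_three]; group
      _ = 1 := by rw [hq]; group
  have e2 : a' * a * a'' = 1 := by
    calc a' * a * a'' = q * p⁻¹ * p⁻¹ * q * (p * q * p) := by rw [h2, ha', ha]; group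
      _ = (q * p) ^ 3 := by
        rw [hpi]
        simp only [pow_three, mul_assoc]
        rw [show p * (p * (p * (p * (q * (p * (q * p)))))) = p ^ 3 * (p * (q * (p * (q * p)))) by
          simp only [pow_three, mul_assoc], hp, one_mul]
      _ = 1 := hqp
  have hcomm : Commute a a' := mul_right_cancel (e1.trans e2.symm)
  set A := closure ({a, a'} : Set G) with hA
  have haA : a ∈ A := subset_closure (Or.inl rfl)
  have ha'A : a' ∈ A := subset_closure (Or.inr rfl)
  have ha''A : a'' ∈ A := by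
    rw [eq_inv_of_mul_eq_one_right e1]
    exact A.inv_mem (A.mul_mem haA ha'A)
  have hinv : ∀ g ∈ A, p * g * p⁻¹ ∈ A := fun g hg => by
    refine closure_induction (p := fun g _ => p * g * p⁻¹ ∈ A) ?_ (by simp) (fun u v _ _ hu hv => ?_)
      (fun u _ hu => ?_) hg
    · rintro u (rfl | rfl)
      exacts [ha'A, ha''A]
    · have := A.mul_mem hu hv
      rwa [show p * u * p⁻¹ * (p * v * p⁻¹) = p * (u * v) * p⁻¹ by group] at this
    · have := A.inv_mem hu
      rwa [show (p * u * p⁻¹)⁻¹ = p * u⁻¹ * p⁻¹ by group] at this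
  have : IsMulCommutative A := isMulCommutative_closure (by
    rintro u (rfl | rfl) v (rfl | rfl)
    exacts [rfl, hcomm.eq, hcomm.eq.symm, rfl])
  have hc : ∀ u ∈ A, ∀ v ∈ A, Commute u v := fun u hu v hv =>
    congrArg Subtype.val (IsMulCommutative.is_comm.comm (⟨u, hu⟩ : A) ⟨v, hv⟩)
  have key : ∀ c ∈ A, c ^ 3 = 1 → Commute c p → c = 1 := fun c hcA hc3 hcp => by
    by_contra hc1
    have hca := (h.commute_of_commute hc3 hc1 (hc a haA c hcA) hcp.symm).1
    have e : q = p * a := by rw [ha]; group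
    exact hne (e ▸ (Commute.refl p).mul_right hca.symm)
  have hfix : ∀ c ∈ A, Commute c p → c = 1 := fun c hcA hcp =>
    key c hcA (h.commute_of_commute hp hp1 hcp (Commute.refl p)).2 hcp
  obtain ⟨g, -, hg⟩ := exists_conj_eq hinv hfix ha'A
  refine ⟨isConj_iff.mpr ⟨g, by rw [hg, ha', ha]; group⟩, ?_⟩
  have hinv2 : ∀ g ∈ A, p * p * g * (p * p)⁻¹ ∈ A := fun g hg => by
    have := hinv _ (hinv g hg)
    rwa [show p * (p * g * p⁻¹) * p⁻¹ = p * p * g * (p * p)⁻¹ by group] at this
  obtain ⟨g', -, hg'⟩ := exists_conj_eq hinv2 (fun c hcA hcp => hfix c hcA (by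
    have e : p = (p * p) * (p * p) := by
      rw [show p * p * (p * p) = p ^ 3 * p by simp only [pow_three, mul_assoc], hp, one_mul]
    rw [e]; exact hcp.mul_right hcp)) ha''A
  refine isConj_iff.mpr ⟨g', by rw [hg', ha'', ha', ha]; group⟩

theorem Nine.nine_pow (h : Nine S) {s : G} (hs : s ∈ S) : s⁻¹ = s * s :=
  inv_eq_of_mul_eq_one_right (by rw [← mul_assoc, ← pow_three', h.cubed s hs])

/-- Fusion in `S` is controlled by its normalizer. -/
theorem Nine.fusion (h : Nine S) {x y g : G} (hx : x ∈ S) (hx1 : x ≠ 1) (hy : y ∈ S)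
    (hg : g * x * g⁻¹ = y) : g ∈ normalizer (S : Set G) := by
  have hy1 : y ≠ 1 := fun e => hx1 (conj_eq_one_iff.mp (hg.trans e))
  rw [mem_normalizer_iff]
  intro s
  constructor
  · intro hs
    exact h.mem_of_commute hy hy1 (hg ▸ commute_conj (h.comm hs hx) g)
  · intro hs
    exact h.mem_of_commute hx hx1 (commute_of_conj (hg.symm ▸ h.comm hs hy : Commute (g * s * g⁻¹) (g * x * g⁻¹)))

/-- The elements of `S` conjugate to `x`. -/
def fiber (S : Subgroup G) (x : G) : Set G := {p | p ∈ S ∧ IsConj x p}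

theorem Nine.card_fiber (h : Nine S) {x : G} (hx : x ∈ S) (hx1 : x ≠ 1) :
    (fiber S x).ncard = (S.subgroupOf (normalizer (S : Set G))).index := by
  set N := normalizer (S : Set G)
  let f : N → fiber S x := fun n => ⟨(n : G) * x * (n : G)⁻¹, (mem_normalizer_iff.mp n.2 x).mp hx,
    isConj_iff.mpr ⟨n, rfl⟩⟩
  have hf : ∀ a b : N, f a = f b ↔ (a : G)⁻¹ * b ∈ S := fun a b => by
    constructor
    · intro e
      have e' : (a : G) * x * (a : G)⁻¹ = b * x * (b : G)⁻¹ := congrArg Subtype.val e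
      refine h.mem_of_commute hx hx1 ?_
      show (a : G)⁻¹ * b * x = x * ((a : G)⁻¹ * b)
      calc (a : G)⁻¹ * b * x = (a : G)⁻¹ * (b * x * (b : G)⁻¹) * b := by group
        _ = _ := by rw [← e']; group
    · intro hm
      refine Subtype.ext ?_
      show (a : G) * x * (a : G)⁻¹ = b * x * (b : G)⁻¹
      calc (a : G) * x * (a : G)⁻¹ = a * ((a : G)⁻¹ * b * x * ((a : G)⁻¹ * b)⁻¹) * (a : G)⁻¹ := by
            rw [(h.comm hm hx).eq, mul_inv_cancel_right]
        _ = _ := by group
  show (fiber S x).ncard = Nat.card (N ⧸ S.subgroupOf N)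
  rw [← Nat.card_coe_set_eq]
  refine (Nat.card_congr (Equiv.ofBijective (Quotient.lift f fun a b hab =>
    (hf a b).mpr (mem_subgroupOf.mp (QuotientGroup.leftRel_apply.mp hab))) ⟨?_, ?_⟩)).symm
  · intro a b
    induction a using QuotientGroup.induction_on with | H a => ?_
    induction b using QuotientGroup.induction_on with | H b => ?_
    intro e
    exact QuotientGroup.eq.mpr (mem_subgroupOf.mpr ((hf a b).mp e))
  · rintro ⟨p, hp, hc⟩
    obtain ⟨g, hg⟩ := isConj_iff.mp hc
    exact ⟨QuotientGroup.mk ⟨g, h.fusion hx hx1 hp hg⟩, Subtype.ext hg⟩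

/-- In a simple group some element of the normalizer inverts `S`. -/
theorem Nine.inverts [IsSimpleGroup G] (h : Nine S) (P : Sylow 3 G) (hP : S = P) :
    ∃ n : G, n ∉ S ∧ ∀ s ∈ S, n * s * n⁻¹ = s⁻¹ := by
  classical
  have : Fact (Nat.Prime 3) := ⟨Nat.prime_three⟩
  set N := normalizer (S : Set G) with hN
  have hSn : (S.subgroupOf N).Normal := inferInstance
  have hne : (S.subgroupOf N).index ≠ 1 := by
    intro h1
    have hNS : N ≤ S := relIndex_eq_one.mp h1
    have hNC : normalizer (P : Set G) ≤ centralizer (P : Set G) := by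
      intro n hn
      have hn' : n ∈ normalizer ((P : Subgroup G) : Set G) := hn
      rw [← hP] at hn'
      show n ∈ centralizer ((P : Subgroup G) : Set G)
      rw [← hP]
      exact fun s hs => (h.comm hs (hNS hn')).eq
    have hcomp := MonoidHom.ker_transferSylow_isComplement' P hNC
    have hP9 : Nat.card (P : Subgroup G) = 9 := hP ▸ h.card
    have hc := hcomp.card_mul_card
    rcases (MonoidHom.normal_ker (MonoidHom.transferSylow P hNC)).eq_bot_or_eq_top with e | e
    · rw [e, Subgroup.card_bot, one_mul] at hc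
      have hPtop : (P : Subgroup G) = ⊤ := Subgroup.eq_top_of_card_eq _ hc
      have hcomm : ∀ a b : G, a * b = b * a := fun a b =>
        (h.comm (hP ▸ hPtop ▸ mem_top a) (hP ▸ hPtop ▸ mem_top b)).eq
      let : CommGroup G := { (inferInstance : Group G) with mul_comm := hcomm }
      have := (IsSimpleGroup.prime_card : (Nat.card G).Prime)
      rw [← hc, hP9] at this
      norm_num at this
    · rw [e, Subgroup.card_top, hP9] at hc
      have : 0 < Nat.card G := Nat.card_pos
      omega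
  -- the quotient acts semiregularly on the eight non-identity elements
  let T := {s : G // s ∈ S ∧ s ≠ 1}
  have hT : Nat.card T = 8 := by
    have e : T ≃ {s : S // s ≠ 1} :=
      { toFun := fun s => ⟨⟨s.1, s.2.1⟩, fun h' => s.2.2 (congrArg Subtype.val h')⟩
        invFun := fun s => ⟨s.1.1, s.1.2, fun h' => s.2 (Subtype.ext h')⟩
        left_inv := fun s => rfl
        right_inv := fun s => rfl }
    have := Fintype.ofFinite S
    rw [Nat.card_congr e, Nat.card_eq_fintype_card, Fintype.card_subtype_compl,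
      Fintype.card_subtype_eq, ← Nat.card_eq_fintype_card, h.card]
  have htwo : ∀ p : ℕ, p.Prime → p ∣ (S.subgroupOf N).index → p = 2 := by
    intro p hp hd
    have := Fact.mk hp
    obtain ⟨q, hq⟩ := exists_prime_orderOf_dvd_card' (G := N ⧸ S.subgroupOf N) p hd
    obtain ⟨n, rfl⟩ := QuotientGroup.mk_surjective q
    have hnp : (n : G) ^ p ∈ S := by
      have : n ^ p ∈ S.subgroupOf N := by
        rw [← QuotientGroup.eq_one_iff, QuotientGroup.mk_pow, ← hq, pow_orderOf_eq_one]
      simpa [mem_subgroupOf] using this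
    have hnS : (n : G) ∉ S := fun hm => by
      rw [(QuotientGroup.eq_one_iff n).mpr (mem_subgroupOf.mpr hm), orderOf_one] at hq
      exact hp.one_lt.ne hq
    let σf : T → T := fun s => ⟨(n : G) * s.1 * (n : G)⁻¹, (mem_normalizer_iff.mp n.2 s.1).mp s.2.1,
      fun e => s.2.2 (conj_eq_one_iff.mp e)⟩
    have hσf : Function.Injective σf := fun a b e =>
      Subtype.ext (mul_left_cancel (mul_right_cancel (congrArg Subtype.val e)))
    let σ : Equiv.Perm T := Equiv.ofBijective σf (Finite.injective_iff_bijective.mp hσf)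
    have hσpow : ∀ k : ℕ, ∀ s : T, ((σ ^ k) s).1 = (n : G) ^ k * s.1 * ((n : G) ^ k)⁻¹ := by
      intro k
      induction k with
      | zero => intro s; simp
      | succ k ih =>
        intro s
        rw [pow_succ', Equiv.Perm.mul_apply]
        show (n : G) * ((σ ^ k) s).1 * (n : G)⁻¹ = _
        rw [ih, pow_succ']; group
    have hσ : σ ^ (p ^ 1) = 1 := by
      refine Equiv.ext fun s => Subtype.ext ?_
      rw [pow_one, hσpow, Equiv.Perm.one_apply, (h.comm hnp s.2.1).eq, mul_inv_cancel_right]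
    by_contra hp2
    have := Fintype.ofFinite T
    obtain ⟨s, hs⟩ := Equiv.Perm.exists_fixed_point_of_prime (α := T) (hp := ⟨hp⟩)
      (by
        rw [← Nat.card_eq_fintype_card, hT]
        intro h8
        exact hp2 ((Nat.prime_dvd_prime_iff_eq hp Nat.prime_two).mp
          (hp.dvd_of_dvd_pow (show p ∣ 2 ^ 3 from h8))))
      hσ
    exact hnS (h.mem_of_commute s.2.1 s.2.2 (mul_inv_eq_iff_eq_mul.mp (congrArg Subtype.val hs)))
  have h2 : 2 ∣ (S.subgroupOf N).index := by
    obtain ⟨p, hp, hd⟩ := Nat.exists_prime_and_dvd hne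
    exact htwo p hp hd ▸ hd
  have : Fact (Nat.Prime 2) := ⟨Nat.prime_two⟩
  obtain ⟨q, hq⟩ := exists_prime_orderOf_dvd_card' (G := N ⧸ S.subgroupOf N) 2 h2
  obtain ⟨n, rfl⟩ := QuotientGroup.mk_surjective q
  have hnS : (n : G) ∉ S := fun hm => by
    rw [(QuotientGroup.eq_one_iff n).mpr (mem_subgroupOf.mpr hm), orderOf_one] at hq
    omega
  have hn2 : (n : G) * n ∈ S := by
    have : n * n ∈ S.subgroupOf N := by
      rw [← pow_two, ← QuotientGroup.eq_one_iff, QuotientGroup.mk_pow, ← hq, pow_orderOf_eq_one]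
    simpa [mem_subgroupOf] using this
  refine ⟨n, hnS, fun s hs => ?_⟩
  set s' := (n : G) * s * (n : G)⁻¹ with hs'
  have hs'S : s' ∈ S := (mem_normalizer_iff.mp n.2 s).mp hs
  have hback : (n : G) * s' * (n : G)⁻¹ = s := by
    calc (n : G) * s' * (n : G)⁻¹ = (n : G) * n * s * ((n : G) * n)⁻¹ := by rw [hs']; group
      _ = s := by rw [(h.comm hn2 hs).eq, mul_inv_cancel_right]
  refine eq_inv_of_mul_eq_one_left (by_contra fun hne' => hnS (h.mem_of_commute
    (S.mul_mem hs'S hs) hne' (mul_inv_eq_iff_eq_mul.mp ?_)))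
  calc (n : G) * (s' * s) * (n : G)⁻¹ = (n : G) * s' * (n : G)⁻¹ * ((n : G) * s * (n : G)⁻¹) := by group
    _ = s' * s := by rw [hback, ← hs', (h.comm hs hs'S).eq]

theorem Nine.isConj_inv [IsSimpleGroup G] (h : Nine S) (P : Sylow 3 G) (hP : S = P) {p : G}
    (hp : p ^ 3 = 1) : IsConj p p⁻¹ := by
  obtain ⟨c, hc⟩ := h.sylow p hp
  obtain ⟨n, -, hn⟩ := h.inverts P hP
  refine isConj_iff.mpr ⟨c⁻¹ * n * c, ?_⟩
  calc c⁻¹ * n * c * p * (c⁻¹ * n * c)⁻¹ = c⁻¹ * (n * (c * p * c⁻¹) * n⁻¹) * c := by group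
    _ = c⁻¹ * (c * p * c⁻¹)⁻¹ * c := by rw [hn _ hc]
    _ = _ := by group

theorem Nine.two_le_fiber (h : Nine S) [IsSimpleGroup G] (P : Sylow 3 G) (hP : S = P) :
    ∀ x ∈ S, x ≠ 1 → 2 ≤ (fiber S x).ncard := by
  intro x hx hx1
  obtain ⟨n, -, hn⟩ := h.inverts P hP
  have hne : x ≠ x⁻¹ := fun e => hx1 (by
    have h2 : x * x = 1 := (congrArg (x * ·) e).trans (mul_inv_cancel x)
    have h3 := h.cubed x hx
    rw [pow_three, h2, mul_one] at h3
    exact h3)
  calc 2 = ({x, x⁻¹} : Set G).ncard := (Set.ncard_pair hne).symm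
    _ ≤ _ := Set.ncard_le_ncard (by
      rintro p (rfl | rfl)
      · exact ⟨hx, IsConj.refl _⟩
      · exact ⟨S.inv_mem hx, isConj_iff.mpr ⟨n, hn x hx⟩⟩) (Set.toFinite _)

end Cfsg.Agent.SelfCentNine
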